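import Mathlib

/-!
# S4721 (Brauer–Leonard, `|N : C| = 3`, involution clause): the algebra

Three signs `e₂ e₃ e₄`, three degrees `f₂ f₃ f₄`, three values `v₂ v₃ v₄` with
`1 + ∑ eᵢ fᵢ = 0`, `1 + ∑ eᵢ vᵢ = 0`, `1 + ∑ eᵢ vᵢ² / fᵢ = 0` and `(v₂, v₃) ≠ (f₂, f₃)`:
then `e₂ e₃ e₄ = 1` and `f₂ f₃ f₄` is a perfect square.  (With `wᵢ = eᵢ fᵢ`, `uᵢ = vᵢ / fᵢ - 1` one has
`∑ w u = 0`, `∑ w u² = 0`; eliminating `u₄` gives a binary quadratic form in `(u₂, u₃)` of discriminant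
`4 w₂ w₃ w₄` with a non-trivial rational zero.)
-/

set_option autoImplicit false

namespace Cfsg.Agent.BL3

/-- `T² = e F S²`, `S ≠ 0`, `e = ±1`, `F > 0` ⇒ `e = 1` and `F` is a perfect square -/
theorem bl3_alg_sq (e F T S : ℤ) (he : e = 1 ∨ e = -1) (hF : 0 < F) (hS : S ≠ 0)
    (h : T ^ 2 = e * F * S ^ 2) : e = 1 ∧ IsSquare F := by
  have hS2 : 0 < S ^ 2 := by positivity
  rcases he with he | he
  · refine ⟨he, ?_⟩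
    rw [he, one_mul] at h
    have hdvd : S ^ 2 ∣ T ^ 2 := ⟨F, by rw [h]; ring⟩
    rw [Int.pow_dvd_pow_iff two_ne_zero] at hdvd
    obtain ⟨k, hk⟩ := hdvd
    refine ⟨k, ?_⟩
    have h2 : F * S ^ 2 = (k * k) * S ^ 2 := by rw [← h, hk]; ring
    exact mul_right_cancel₀ hS2.ne' h2
  · exfalso
    rw [he] at h
    have h1 : 0 ≤ T ^ 2 := by positivity
    have h2 : 0 < F * S ^ 2 := mul_pos hF hS2
    nlinarith

/-- **the algebra of the involution clause** -/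
theorem bl3_alg (e2 e3 e4 f2 f3 f4 v2 v3 v4 : ℤ)
    (he2 : e2 = 1 ∨ e2 = -1) (he3 : e3 = 1 ∨ e3 = -1) (he4 : e4 = 1 ∨ e4 = -1)
    (hf2 : 0 < f2) (hf3 : 0 < f3) (hf4 : 0 < f4)
    (hL1 : 1 + e2 * f2 + e3 * f3 + e4 * f4 = 0)
    (hL2 : 1 + e2 * v2 + e3 * v3 + e4 * v4 = 0)
    (hQ : f2 * f3 * f4 + e2 * v2 ^ 2 * (f3 * f4) + e3 * v3 ^ 2 * (f2 * f4) +
      e4 * v4 ^ 2 * (f2 * f3) = 0)
    (hNK : v2 ≠ f2 ∨ v3 ≠ f3) :
    e2 * e3 * e4 = 1 ∧ IsSquare (f2 * f3 * f4) := by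
  have h22 : e2 ^ 2 = 1 := by rcases he2 with h | h <;> rw [h] <;> norm_num
  have h33 : e3 ^ 2 = 1 := by rcases he3 with h | h <;> rw [h] <;> norm_num
  have h44 : e4 ^ 2 = 1 := by rcases he4 with h | h <;> rw [h] <;> norm_num
  have he : e2 * e3 * e4 = 1 ∨ e2 * e3 * e4 = -1 := by
    rcases he2 with h2 | h2 <;> rcases he3 with h3 | h3 <;> rcases he4 with h4 | h4 <;>
      rw [h2, h3, h4] <;> norm_num
  have hF : 0 < f2 * f3 * f4 := by positivity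
  -- the deviations
  obtain ⟨U2, hU2⟩ : ∃ U2 : ℤ, U2 = v2 - f2 := ⟨_, rfl⟩
  obtain ⟨U3, hU3⟩ : ∃ U3 : ℤ, U3 = v3 - f3 := ⟨_, rfl⟩
  obtain ⟨U4, hU4⟩ : ∃ U4 : ℤ, U4 = v4 - f4 := ⟨_, rfl⟩
  have hR1 : e4 * U4 = -(e2 * U2 + e3 * U3) := by
    rw [hU2, hU3, hU4]; linear_combination hL2 - hL1
  have hR2 : e2 * U2 ^ 2 * (f3 * f4) + e3 * U3 ^ 2 * (f2 * f4) + e4 * U4 ^ 2 * (f2 * f3) = 0 := by
    rw [hU2, hU3, hU4]
    linear_combination hQ - 2 * (f2 * f3 * f4) * hL2 + (f2 * f3 * f4) * hL1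
  have hU4sq : U4 ^ 2 = (e2 * U2 + e3 * U3) ^ 2 := by
    have : (e4 * U4) ^ 2 = (e2 * U2 + e3 * U3) ^ 2 := by rw [hR1]; ring
    rw [mul_pow, h44, one_mul] at this
    exact this
  have hf4' : f4 = -e4 * (1 + e2 * f2 + e3 * f3) := by
    have : e4 * (e4 * f4) = e4 * (-(1 + e2 * f2 + e3 * f3)) := by
      congr 1; linear_combination hL1
    rw [← mul_assoc, ← pow_two, h44, one_mul] at this
    rw [this]; ring
  -- the binary form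
  have hform : (e2 * f3 * (1 + e3 * f3)) * U2 ^ 2 + (-2 * e2 * e3 * f2 * f3) * (U2 * U3) +
      (e3 * f2 * (1 + e2 * f2)) * U3 ^ 2 = 0 := by
    have h1 := hR2
    rw [hU4sq, hf4'] at h1
    have h2 : -e4 * (e2 * U2 ^ 2 * (f3 * (-e4 * (1 + e2 * f2 + e3 * f3))) +
        e3 * U3 ^ 2 * (f2 * (-e4 * (1 + e2 * f2 + e3 * f3))) +
        e4 * (e2 * U2 + e3 * U3) ^ 2 * (f2 * f3)) = 0 := by rw [h1, mul_zero]
    have h3 : -e4 * (e2 * U2 ^ 2 * (f3 * (-e4 * (1 + e2 * f2 + e3 * f3))) +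
        e3 * U3 ^ 2 * (f2 * (-e4 * (1 + e2 * f2 + e3 * f3))) +
        e4 * (e2 * U2 + e3 * U3) ^ 2 * (f2 * f3)) =
        e4 ^ 2 * (e2 * U2 ^ 2 * f3 * (1 + e2 * f2 + e3 * f3) +
          e3 * U3 ^ 2 * f2 * (1 + e2 * f2 + e3 * f3) - (e2 * U2 + e3 * U3) ^ 2 * (f2 * f3)) := by
      ring
    rw [h3, h44, one_mul] at h2
    have h4 : e2 * U2 ^ 2 * f3 * (1 + e2 * f2 + e3 * f3) +
        e3 * U3 ^ 2 * f2 * (1 + e2 * f2 + e3 * f3) - (e2 * U2 + e3 * U3) ^ 2 * (f2 * f3) =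
        (e2 * f3 * (1 + e3 * f3)) * U2 ^ 2 + (-2 * e2 * e3 * f2 * f3) * (U2 * U3) +
        (e3 * f2 * (1 + e2 * f2)) * U3 ^ 2 := by ring
    rw [h4] at h2
    exact h2
  -- the discriminant
  have hdisc : (-2 * e2 * e3 * f2 * f3) ^ 2 -
      4 * (e2 * f3 * (1 + e3 * f3)) * (e3 * f2 * (1 + e2 * f2)) =
      (e2 * e3 * e4) * (f2 * f3 * f4) * 2 ^ 2 := by
    rw [hf4']
    have : (-2 * e2 * e3 * f2 * f3) ^ 2 -
        4 * (e2 * f3 * (1 + e3 * f3)) * (e3 * f2 * (1 + e2 * f2)) =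
        e2 * e3 * e4 * (f2 * f3 * (-e4 * (1 + e2 * f2 + e3 * f3))) * 2 ^ 2 +
        4 * f2 ^ 2 * f3 ^ 2 * (e2 ^ 2 * e3 ^ 2 - 1) +
        4 * e2 * e3 * f2 * f3 * (1 + e2 * f2 + e3 * f3) * (e4 ^ 2 - 1) +
        4 * f2 ^ 2 * f3 ^ 2 * (1 - e2 ^ 2 * e3 ^ 2) := by ring
    rw [this, h22, h33, h44]; ring
  rcases hNK with hne | hne
  · -- `U2 ≠ 0`
    have hU2ne : U2 ≠ 0 := by rw [hU2]; exact sub_ne_zero.2 hne
    have hsq : (2 * (e3 * f2 * (1 + e2 * f2)) * U3 + (-2 * e2 * e3 * f2 * f3) * U2) ^ 2 =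
        (e2 * e3 * e4) * (f2 * f3 * f4) * (2 * U2) ^ 2 := by
      have : (2 * (e3 * f2 * (1 + e2 * f2)) * U3 + (-2 * e2 * e3 * f2 * f3) * U2) ^ 2 =
          ((-2 * e2 * e3 * f2 * f3) ^ 2 -
            4 * (e2 * f3 * (1 + e3 * f3)) * (e3 * f2 * (1 + e2 * f2))) * U2 ^ 2 +
          4 * (e3 * f2 * (1 + e2 * f2)) *
            ((e2 * f3 * (1 + e3 * f3)) * U2 ^ 2 + (-2 * e2 * e3 * f2 * f3) * (U2 * U3) +
              (e3 * f2 * (1 + e2 * f2)) * U3 ^ 2) := by ring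
      rw [this, hform, hdisc]; ring
    exact bl3_alg_sq _ _ _ (2 * U2) he hF (mul_ne_zero two_ne_zero hU2ne) hsq
  · have hU3ne : U3 ≠ 0 := by rw [hU3]; exact sub_ne_zero.2 hne
    have hsq : (2 * (e2 * f3 * (1 + e3 * f3)) * U2 + (-2 * e2 * e3 * f2 * f3) * U3) ^ 2 =
        (e2 * e3 * e4) * (f2 * f3 * f4) * (2 * U3) ^ 2 := by
      have : (2 * (e2 * f3 * (1 + e3 * f3)) * U2 + (-2 * e2 * e3 * f2 * f3) * U3) ^ 2 =
          ((-2 * e2 * e3 * f2 * f3) ^ 2 -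
            4 * (e2 * f3 * (1 + e3 * f3)) * (e3 * f2 * (1 + e2 * f2))) * U3 ^ 2 +
          4 * (e2 * f3 * (1 + e3 * f3)) *
            ((e2 * f3 * (1 + e3 * f3)) * U2 ^ 2 + (-2 * e2 * e3 * f2 * f3) * (U2 * U3) +
              (e3 * f2 * (1 + e2 * f2)) * U3 ^ 2) := by ring
      rw [this, hform, hdisc]; ring
    exact bl3_alg_sq _ _ _ (2 * U3) he hF (mul_ne_zero two_ne_zero hU3ne) hsq

/-- the count form: exactly two of the three signs are `-1` -/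
theorem bl3_alg_count (e2 e3 e4 f2 f3 f4 : ℤ)
    (he2 : e2 = 1 ∨ e2 = -1) (he3 : e3 = 1 ∨ e3 = -1) (he4 : e4 = 1 ∨ e4 = -1)
    (hf2 : 0 < f2) (hf3 : 0 < f3) (hf4 : 0 < f4)
    (hL1 : 1 + e2 * f2 + e3 * f3 + e4 * f4 = 0) (hprod : e2 * e3 * e4 = 1) :
    (e2 = -1 ∧ e3 = -1 ∧ e4 = 1) ∨ (e2 = -1 ∧ e3 = 1 ∧ e4 = -1) ∨
      (e2 = 1 ∧ e3 = -1 ∧ e4 = -1) := by
  rcases he2 with h2 | h2 <;> rcases he3 with h3 | h3 <;> rcases he4 with h4 | h4 <;>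
    rw [h2, h3, h4] at hprod hL1 <;> first | (exfalso; omega) | simp_all

end Cfsg.Agent.BL3
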