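import Mathlib
import Cfsg.Prelude.Def_Characters
import Cfsg.Prelude.Def_Blocks
import Cfsg.Prelude.Def_Local
import Cfsg.Agent.BL3.DataA

/-!
# S4721, part 1: the block data for `m = 3`

`bl3_Data p M P X Y a δ ζ` packages the first part of S4721 (the description of the principal
block of a group with an abelian Sylow `p`-subgroup `P` with `|N_G(P) : C_G(P)| = 3` acting
freely), together with three further facts which come out of the proof of the theorem of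
Brauer and Leonard: the fibres of `ζ` are exactly the classes under the normalizer, the
characters in `Y` agree on `p`-regular elements, and the `p`-regular relation
`-δ η + ∑_{χ ∈ X} a_χ χ = 0`.

`bl3_data_exists` shows that such data exist under the hypotheses of S4721.
-/

set_option autoImplicit false
set_option linter.style.haveILetI false

namespace Cfsg.Agent.BL3

open Cfsg.Agent.Helper6 Cfsg.Agent.Helper6.BLeo

universe u

/-- The block data of S4721 (first part), with three extra clauses. -/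
structure bl3_Data {G : Type u} [Group G] (p : ℕ) (M : Ideal Cfsg.AlgInt) (P : Sylow p G)
    (X Y : Set (Cfsg.IrrCharacter G)) (a : Cfsg.IrrCharacter G → ℤ) (δ : ℤ)
    (ζ : (↥(P : Subgroup G) →* ℂˣ) → Cfsg.IrrCharacter G) : Prop where
  union : Cfsg.principalBlock M G = X ∪ Y
  disj : Disjoint X Y
  card_X : Nat.card X = 3
  card_Y : Nat.card Y = (Nat.card P - 1) / 3
  triv_mem : ∃ χ₁ ∈ X, (χ₁ : G → ℂ) = fun _ => 1
  delta : δ = 1 ∨ δ = -1
  val_X : ∀ χ ∈ X, (a χ = 1 ∨ a χ = -1) ∧ ∀ z y : G, Cfsg.IsPPart p z y →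
    y ∈ (P : Subgroup G) → y ≠ 1 → (χ : G → ℂ) z = (a χ : ℂ)
  zeta_mem : ∀ ψ : ↥(P : Subgroup G) →* ℂˣ, ψ ≠ 1 → ζ ψ ∈ Y
  zeta_onto : ∀ η ∈ Y, ∃ ψ : ↥(P : Subgroup G) →* ℂˣ, ψ ≠ 1 ∧ ζ ψ = η
  zeta_iff : ∀ ψ ψ' : ↥(P : Subgroup G) →* ℂˣ, ψ ≠ 1 → ψ' ≠ 1 →
    (ζ ψ' = ζ ψ ↔ ∃ n : G, n ∈ Subgroup.normalizer ((P : Subgroup G) : Set G) ∧
      ∀ w w' : ↥(P : Subgroup G), (w' : G) = n * w * n⁻¹ → ψ' w' = ψ w)
  zeta_const : ∀ ψ ψ' : ↥(P : Subgroup G) →* ℂˣ, ψ ≠ 1 →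
    (∃ n : G, n ∈ Subgroup.normalizer ((P : Subgroup G) : Set G) ∧
      ∀ w w' : ↥(P : Subgroup G), (w' : G) = n * w * n⁻¹ → ψ' w' = ψ w) → ζ ψ' = ζ ψ
  val_Y : ∀ ψ : ↥(P : Subgroup G) →* ℂˣ, ψ ≠ 1 → ∀ (z : G) (y : ↥(P : Subgroup G)),
    Cfsg.IsPPart p z (y : G) → (y : G) ≠ 1 →
    (ζ ψ : G → ℂ) z = (δ : ℂ) *
      ∑ᶠ ψ' ∈ {ψ' : ↥(P : Subgroup G) →* ℂˣ |
        ∃ n : G, n ∈ Subgroup.normalizer ((P : Subgroup G) : Set G) ∧
          ∀ w w' : ↥(P : Subgroup G), (w' : G) = n * w * n⁻¹ → ψ' w' = ψ w},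
        ((ψ' y : ℂˣ) : ℂ)
  reg_Y : ∀ η ∈ Y, ∀ η' ∈ Y, ∀ g : G, ¬ p ∣ orderOf g → (η : G → ℂ) g = (η' : G → ℂ) g
  rel : ∀ η ∈ Y, ∀ g : G, ¬ p ∣ orderOf g →
    -(δ : ℂ) * (η : G → ℂ) g + ∑ᶠ χ ∈ X, (a χ : ℂ) * (χ : G → ℂ) g = 0

/-- The arithmetic of the norm equation for `m = 3`. -/
theorem bl3_data_arith (d δ r S : ℤ) (hδ : δ = 1 ∨ δ = -1) (hr : 2 ≤ r) (hS : 1 ≤ S)
    (h : (d - δ) ^ 2 + (r - 1) * d ^ 2 + S = 4) :
    (d = 0 ∧ S = 3) ∨ (d = δ ∧ r - 1 + S = 4) := by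
  have h0 : d ^ 2 ≤ (r - 1) * d ^ 2 := by
    have := mul_le_mul_of_nonneg_right (show (1 : ℤ) ≤ r - 1 by linarith) (sq_nonneg d)
    linarith
  have h1 : d ^ 2 ≤ 3 := by nlinarith [sq_nonneg (d - δ)]
  have h2 : d ≤ 1 := by nlinarith
  have h3 : -1 ≤ d := by nlinarith
  interval_cases d <;> rcases hδ with rfl | rfl <;> simp at h ⊢ <;> omega

/-- An integer with `0 < z ^ 2 ≤ 3` is `±1`. -/
theorem bl3_data_sq_le_three {z : ℤ} (h : z ^ 2 ≤ 3) (h0 : z ≠ 0) : z = 1 ∨ z = -1 := by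
  have h2 : z ≤ 1 := by nlinarith
  have h3 : -1 ≤ z := by nlinarith
  omega

/-- No prime power equals `10`. -/
theorem bl3_data_ten {p k : ℕ} (hp : p.Prime) (h : p ^ k = 10) : False := by
  have h2 : 2 ∣ p ^ k := by rw [h]; norm_num
  have h5 : 5 ∣ p ^ k := by rw [h]; norm_num
  have e2 := (Nat.prime_dvd_prime_iff_eq Nat.prime_two hp).mp (Nat.prime_two.dvd_of_dvd_pow h2)
  have e5 := (Nat.prime_dvd_prime_iff_eq Nat.prime_five hp).mp (Nat.prime_five.dvd_of_dvd_pow h5)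
  omega

open Classical in
/-- If the non-principal linear characters of `P` fall into exactly two classes under the
normalizer, then the two class sums at a non-identity element add up to `-1`. -/
theorem bl3_data_two_orbits {G : Type u} [Group G] [Finite G] (P : Subgroup G)
    (hab : ∀ a b : ↥P, a * b = b * a) (ψ ψ'' : ↥P →* ℂˣ) (hψ : ψ ≠ 1) (hψ'' : ψ'' ≠ 1)
    (hcover : ∀ ψ' : ↥P →* ℂˣ, ψ' ≠ 1 →
      (∃ n : G, n ∈ Subgroup.normalizer (P : Set G) ∧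
        ∀ w w' : ↥P, (w' : G) = n * w * n⁻¹ → ψ' w' = ψ w) ∨
      (∃ n : G, n ∈ Subgroup.normalizer (P : Set G) ∧
        ∀ w w' : ↥P, (w' : G) = n * w * n⁻¹ → ψ' w' = ψ'' w))
    (hdisj : ∀ ψ' : ↥P →* ℂˣ,
      (∃ n : G, n ∈ Subgroup.normalizer (P : Set G) ∧
        ∀ w w' : ↥P, (w' : G) = n * w * n⁻¹ → ψ' w' = ψ w) →
      ¬ (∃ n : G, n ∈ Subgroup.normalizer (P : Set G) ∧
        ∀ w w' : ↥P, (w' : G) = n * w * n⁻¹ → ψ' w' = ψ'' w))
    (y : ↥P) (hy : y ≠ 1) :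
    ∑ᶠ ψ' ∈ {ψ' : ↥P →* ℂˣ | ∃ n : G, n ∈ Subgroup.normalizer (P : Set G) ∧
        ∀ w w' : ↥P, (w' : G) = n * w * n⁻¹ → ψ' w' = ψ w}, ((ψ' y : ℂˣ) : ℂ) +
      ∑ᶠ ψ' ∈ {ψ' : ↥P →* ℂˣ | ∃ n : G, n ∈ Subgroup.normalizer (P : Set G) ∧
        ∀ w w' : ↥P, (w' : G) = n * w * n⁻¹ → ψ' w' = ψ'' w}, ((ψ' y : ℂˣ) : ℂ) = -1 := by
  haveI : Finite (↥P →* ℂˣ) := finite_hom_units
  haveI : Fintype (↥P →* ℂˣ) := Fintype.ofFinite _
  rw [finsum_mem_eq_sum_ite, finsum_mem_eq_sum_ite, ← Finset.sum_add_distrib,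
    ← sum_nontrivial_hom_apply hab y hy]
  apply Finset.sum_congr rfl
  intro ψ' _
  by_cases h1 : ψ' = 1
  · rw [if_pos h1, if_neg, if_neg, add_zero]
    · intro h
      exact ne_one_of_rel P ψ'' ψ' hψ'' h h1
    · intro h
      exact ne_one_of_rel P ψ ψ' hψ h h1
  · rw [if_neg h1]
    rcases hcover ψ' h1 with h | h
    · rw [if_pos (show ψ' ∈ {ψ' : ↥P →* ℂˣ | ∃ n : G, n ∈ Subgroup.normalizer (P : Set G) ∧
        ∀ w w' : ↥P, (w' : G) = n * w * n⁻¹ → ψ' w' = ψ w} from h),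
        if_neg (show ψ' ∉ {ψ' : ↥P →* ℂˣ | ∃ n : G, n ∈ Subgroup.normalizer (P : Set G) ∧
        ∀ w w' : ↥P, (w' : G) = n * w * n⁻¹ → ψ' w' = ψ'' w} from hdisj ψ' h), add_zero]
    · rw [if_pos (show ψ' ∈ {ψ' : ↥P →* ℂˣ | ∃ n : G, n ∈ Subgroup.normalizer (P : Set G) ∧
        ∀ w w' : ↥P, (w' : G) = n * w * n⁻¹ → ψ' w' = ψ'' w} from h),
        if_neg (show ψ' ∉ {ψ' : ↥P →* ℂˣ | ∃ n : G, n ∈ Subgroup.normalizer (P : Set G) ∧
        ∀ w w' : ↥P, (w' : G) = n * w * n⁻¹ → ψ' w' = ψ w} from fun h' => hdisj ψ' h' h),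
        zero_add]

set_option maxHeartbeats 1600000 in
open Classical in
/-- **S4721, part 1**: under the hypotheses of S4721 the block data exist. -/
theorem bl3_data_exists {G : Type u} [Group G] [Finite G] (p : ℕ) [hp : Fact p.Prime]
    (M : Ideal Cfsg.AlgInt) (hM : Cfsg.IsPModular p M) (P : Sylow p G)
    (hab : IsMulCommutative P) (hP1 : Nat.card P ≠ 1)
    (hCN : (Subgroup.centralizer ((P : Subgroup G) : Set G)).relIndex
      (Subgroup.normalizer ((P : Subgroup G) : Set G)) = 3)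
    (hm2 : 3 + 1 < Nat.card P)
    (hfrob : ∀ y : G, y ∈ (P : Subgroup G) → y ≠ 1 →
      Subgroup.centralizer ({y} : Set G) ⊓ Subgroup.normalizer ((P : Subgroup G) : Set G) =
        Subgroup.centralizer ((P : Subgroup G) : Set G)) :
    ∃ (X Y : Set (Cfsg.IrrCharacter G)) (a : Cfsg.IrrCharacter G → ℤ) (δ : ℤ)
      (ζ : (↥(P : Subgroup G) →* ℂˣ) → Cfsg.IrrCharacter G), bl3_Data p M P X Y a δ ζ := by
  have hab0 : ∀ a ∈ (P : Subgroup G), ∀ b ∈ (P : Subgroup G), a * b = b * a :=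
    fun a ha b hb => congrArg Subtype.val (hab.is_comm.comm ⟨a, ha⟩ ⟨b, hb⟩)
  have hab' : ∀ a b : ↥(P : Subgroup G), a * b = b * a := fun a b =>
    Subtype.ext (hab0 a a.2 b b.2)
  obtain ⟨s, X, Y, hs, hunion, hdisj, hcardX, hcardY, hcardY3, hr2, ⟨χ₁, hχ₁X, hχ₁⟩, a, d, δ, ζ,
    hδ, hvalX, hmem, honto, hconst, hiff, hvalY, hnorm, hregY, hrel⟩ :=
    bl3_bleo p M hM P hab0 hP1 3 (by norm_num) hm2 hCN hfrob
  haveI : Finite (Cfsg.IrrCharacter G) := irr_finite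
  have hXfin : X.Finite := Set.toFinite X
  -- a non-identity element of `P`
  obtain ⟨y₀, hy₀P, hy₀1⟩ : ∃ y : G, y ∈ (P : Subgroup G) ∧ y ≠ 1 := by
    by_contra hcon
    push Not at hcon
    apply hP1
    have hbot : (P : Subgroup G) = ⊥ := (Subgroup.eq_bot_iff_forall _).mpr hcon
    change Nat.card ↥(P : Subgroup G) = 1
    rw [hbot]
    exact Subgroup.card_bot
  have hpart : Cfsg.IsPPart p y₀ y₀ := by
    refine ⟨1, mul_one y₀, Commute.one_right y₀, ?_, ?_⟩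
    · obtain ⟨k, hk⟩ := (IsPGroup.iff_orderOf.mp P.2) ⟨y₀, hy₀P⟩
      exact ⟨k, by rw [← hk, Subgroup.orderOf_mk]⟩
    · rw [orderOf_one]; exact hp.out.one_lt.ne' ∘ Nat.dvd_one.mp
  have ha1 : a χ₁ = 1 := by
    have h := (hvalX χ₁ hχ₁X).2 y₀ y₀ hpart hy₀P hy₀1
    rw [hχ₁] at h
    have h' : ((1 : ℤ) : ℂ) = (a χ₁ : ℂ) := by rw [Int.cast_one]; exact h
    exact (Int.cast_injective h').symm
  -- the norm equation
  have hP1' : 1 ≤ Nat.card ↥(P : Subgroup G) := Nat.card_pos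
  have hdiv : (((Nat.card ↥(P : Subgroup G) : ℤ) - 1) / ((3 : ℕ) : ℤ)) = (Nat.card Y : ℤ) := by
    have h1 : ((Nat.card ↥(P : Subgroup G) : ℤ) - 1) = ((3 : ℕ) : ℤ) * (Nat.card Y : ℤ) := by
      have := hcardY3
      zify [hP1'] at this
      exact this
    rw [h1, Int.mul_ediv_cancel_left _ (by norm_num)]
  rw [hdiv] at hnorm
  have hr2' : (2 : ℤ) ≤ (Nat.card Y : ℤ) := by exact_mod_cast hr2
  have hterm : ∀ χ ∈ X, a χ ^ 2 ≤ ∑ᶠ χ ∈ X, a χ ^ 2 := by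
    intro χ hχ
    rw [finsum_mem_eq_finite_toFinset_sum _ hXfin]
    exact Finset.single_le_sum (f := fun χ => a χ ^ 2) (fun i _ => sq_nonneg (a i))
      ((Set.Finite.mem_toFinset hXfin).mpr hχ)
  have hS1 : 1 ≤ ∑ᶠ χ ∈ X, a χ ^ 2 := by
    have := hterm χ₁ hχ₁X
    rw [ha1] at this
    linarith
  have hbase : (1 : ℤ) ≤ (d - δ) ^ 2 + ((Nat.card Y : ℤ) - 1) * d ^ 2 := by
    have hε2 : δ * δ = 1 := by rcases hδ with h | h <;> rw [h] <;> norm_num
    by_cases hd0 : d = 0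
    · rw [hd0]
      have : (0 - δ) ^ 2 = 1 := by linear_combination hε2
      rw [this]
      nlinarith
    · have hd2 := one_le_sq_of_ne_zero hd0
      nlinarith [sq_nonneg (d - δ)]
  have hS3 : ∑ᶠ χ ∈ X, a χ ^ 2 ≤ 3 := by push_cast at hnorm; linarith
  have hapm : ∀ χ ∈ X, a χ = 1 ∨ a χ = -1 := fun χ hχ =>
    bl3_data_sq_le_three (le_trans (hterm χ hχ) hS3) (hvalX χ hχ).1
  have hSs : ∑ᶠ χ ∈ X, a χ ^ 2 = (s : ℤ) := by
    have h1 : ∑ᶠ χ ∈ X, a χ ^ 2 = ∑ᶠ _χ ∈ X, (1 : ℤ) := by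
      apply finsum_mem_congr rfl
      intro χ hχ
      rcases hapm χ hχ with h | h <;> rw [h] <;> norm_num
    rw [h1, finsum_mem_const_nsmul, nsmul_eq_mul, mul_one, hcardX]
  have hvalX' : ∀ χ ∈ X, (a χ = 1 ∨ a χ = -1) ∧ ∀ z y : G, Cfsg.IsPPart p z y →
      y ∈ (P : Subgroup G) → y ≠ 1 → (χ : G → ℂ) z = (a χ : ℂ) :=
    fun χ hχ => ⟨hapm χ hχ, (hvalX χ hχ).2⟩
  have hnorm' : (d - δ) ^ 2 + ((Nat.card Y : ℤ) - 1) * d ^ 2 + ∑ᶠ χ ∈ X, a χ ^ 2 = 4 := by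
    push_cast at hnorm; linarith
  rcases bl3_data_arith d δ (Nat.card Y : ℤ) _ hδ hr2' hS1 hnorm' with ⟨hd0, hS⟩ | ⟨hdδ, hrs⟩
  · -- the generic case `d = 0`
    have hs3 : s = 3 := by
      rw [hSs] at hS
      exact_mod_cast hS
    refine ⟨X, Y, a, δ, ζ, ⟨hunion, hdisj, by rw [hcardX, hs3], hcardY, ⟨χ₁, hχ₁X, hχ₁⟩, hδ,
      hvalX', hmem, honto, hiff, hconst, ?_, hregY, ?_⟩⟩
    · intro ψ hψ z y hzy hy
      rw [hvalY ψ hψ z y hzy hy, hd0, Int.cast_zero, zero_add]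
    · intro η hη g hg
      have h := hrel η hη g hg
      rw [hd0, Int.cast_zero, mul_zero, zero_sub] at h
      exact h
  · -- the case `d = δ`
    rw [hSs] at hrs hS1
    have hs1 : 1 ≤ s := by exact_mod_cast hS1
    have hrs' : Nat.card Y + s = 5 := by
      have : (Nat.card Y : ℤ) + (s : ℤ) = 5 := by linarith
      exact_mod_cast this
    have hcases : (Nat.card Y = 2 ∧ s = 3) ∨ (Nat.card Y = 3 ∧ s = 2) ∨
        (Nat.card Y = 4 ∧ s = 1) := by omega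
    rcases hcases with ⟨hY2, hs3⟩ | ⟨hY3, -⟩ | ⟨hY4, hs1'⟩
    · -- `|P| = 7`: interchange the two members of `Y`
      obtain ⟨η₁, η₂, hne, hYeq⟩ := Set.ncard_eq_two.mp ((Nat.card_coe_set_eq Y).symm.trans hY2)
      obtain ⟨σ, hσ⟩ : ∃ σ : Cfsg.IrrCharacter G → Cfsg.IrrCharacter G,
          σ = fun η => if η = η₁ then η₂ else η₁ := ⟨_, rfl⟩
      have hσ1 : σ η₁ = η₂ := by rw [hσ]; exact if_pos rfl
      have hσ2 : σ η₂ = η₁ := by rw [hσ]; exact if_neg hne.symm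
      have hYmem : ∀ η, η ∈ Y ↔ η = η₁ ∨ η = η₂ := by
        intro η; rw [hYeq]; simp
      have hσY : ∀ η ∈ Y, σ η ∈ Y := by
        intro η hη
        rcases (hYmem η).mp hη with rfl | rfl
        · rw [hσ1]; exact (hYmem _).mpr (Or.inr rfl)
        · rw [hσ2]; exact (hYmem _).mpr (Or.inl rfl)
      have hσσ : ∀ η ∈ Y, σ (σ η) = η := by
        intro η hη
        rcases (hYmem η).mp hη with rfl | rfl
        · rw [hσ1, hσ2]
        · rw [hσ2, hσ1]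
      have hσne : ∀ η ∈ Y, σ η ≠ η := by
        intro η hη
        rcases (hYmem η).mp hη with rfl | rfl
        · rw [hσ1]; exact hne.symm
        · rw [hσ2]; exact hne
      have hσother : ∀ η ∈ Y, ∀ η' ∈ Y, η' = η ∨ η' = σ η := by
        intro η hη η' hη'
        rcases (hYmem η).mp hη with rfl | rfl <;> rcases (hYmem η').mp hη' with rfl | rfl
        · exact Or.inl rfl
        · exact Or.inr hσ1.symm
        · exact Or.inr hσ2.symm
        · exact Or.inl rfl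
      refine ⟨X, Y, a, -δ, fun ψ => σ (ζ ψ), ⟨hunion, hdisj, by rw [hcardX, hs3], hcardY,
        ⟨χ₁, hχ₁X, hχ₁⟩, ?_, hvalX', ?_, ?_, ?_, ?_, ?_, hregY, ?_⟩⟩
      · rcases hδ with h | h <;> rw [h] <;> norm_num
      · intro ψ hψ
        exact hσY _ (hmem ψ hψ)
      · intro η hη
        obtain ⟨ψ, hψ, hζ⟩ := honto (σ η) (hσY η hη)
        refine ⟨ψ, hψ, ?_⟩
        rw [hζ, hσσ η hη]
      · intro ψ ψ' hψ hψ'
        rw [← hiff ψ ψ' hψ hψ']
        constructor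
        · intro h
          have h' := congrArg σ h
          rwa [hσσ _ (hmem ψ' hψ'), hσσ _ (hmem ψ hψ)] at h'
        · intro h
          exact congrArg σ h
      · intro ψ ψ' hψ hrel'
        exact congrArg σ (hconst ψ ψ' hψ hrel')
      · intro ψ hψ z y hzy hy
        obtain ⟨ψ'', hψ'', hζ''⟩ := honto (σ (ζ ψ)) (hσY _ (hmem ψ hψ))
        have hy' : y ≠ 1 := fun h => hy (by rw [h]; rfl)
        have hsum := bl3_data_two_orbits (P : Subgroup G) hab' ψ ψ'' hψ hψ''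
          (by
            intro ψ' hψ'
            rcases hσother (ζ ψ) (hmem ψ hψ) (ζ ψ') (hmem ψ' hψ') with h | h
            · exact Or.inl ((hiff ψ ψ' hψ hψ').mp h)
            · exact Or.inr ((hiff ψ'' ψ' hψ'' hψ').mp (h.trans hζ''.symm)))
          (by
            intro ψ' h1 h2
            have e1 := hconst ψ ψ' hψ h1
            have e2 := hconst ψ'' ψ' hψ'' h2
            exact hσne (ζ ψ) (hmem ψ hψ) ((hζ''.symm.trans e2.symm).trans e1))
          y hy'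
        change (σ (ζ ψ) : G → ℂ) z = _
        rw [← hζ'', hvalY ψ'' hψ'' z y hzy hy, hdδ]
        push_cast
        linear_combination (δ : ℂ) * hsum
      · intro η hη g hg
        have h := hrel η hη g hg
        rw [← hcardY, hY2, hdδ] at h
        push_cast at h ⊢
        linear_combination h
    · -- `|P| = 10` is not a prime power
      exfalso
      rw [hY3] at hcardY3
      obtain ⟨k, hk⟩ := IsPGroup.iff_card.mp P.2
      have h10 : Nat.card ↥(P : Subgroup G) = 10 := by omega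
      exact bl3_data_ten hp.out (hk.symm.trans h10)
    · -- `|P| = 13`: the degree equation has no solution
      exfalso
      have hY0 : Nonempty ↥Y := by
        by_contra hcon
        rw [not_nonempty_iff] at hcon
        rw [Nat.card_of_isEmpty] at hY4
        omega
      obtain ⟨⟨η, hη⟩⟩ := hY0
      have hg1 : ¬ p ∣ orderOf (1 : G) := by
        rw [orderOf_one]; exact hp.out.one_lt.ne' ∘ Nat.dvd_one.mp
      have h := hrel η hη 1 hg1
      rw [← hcardY, hY4, hdδ] at h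
      have hX1 : X = {χ₁} := by
        rw [hs1'] at hcardX
        obtain ⟨hsub, -⟩ := Nat.card_eq_one_iff_unique.mp hcardX
        apply Set.eq_singleton_iff_unique_mem.mpr
        refine ⟨hχ₁X, fun χ hχ => ?_⟩
        exact congrArg Subtype.val (hsub.elim ⟨χ, hχ⟩ ⟨χ₁, hχ₁X⟩)
      rw [hX1, finsum_mem_singleton, ha1, hχ₁,
        ← charDegree_cast_of_isCharacter (IsIrrCharacter.isCharacter η.2)] at h
      have h' : ((3 * δ * (Cfsg.charDegree (η : G → ℂ) : ℤ) + 1 : ℤ) : ℂ) = ((0 : ℤ) : ℂ) := by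
        push_cast
        linear_combination h
      have h'' := Int.cast_injective h'
      rcases hδ with hd | hd <;> rw [hd] at h'' <;> omega

end Cfsg.Agent.BL3
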