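import Mathlib
import Cfsg.Prelude.Def_Characters
import Cfsg.Prelude.Def_Blocks
import Cfsg.Agent.Helper6.BrauerAppA
import Cfsg.Agent.Helper6.DadeIso

/-!
# S4721: the class-multiplication identity `(Q)` for an involution, any prime `p`

`t` an involution, `y` an element of a `p`-subgroup `P` such that no element whose `p`-part is conjugate
to `y` is a product of two conjugates of `t`.  Then, summing over the principal `p`-block,
`∑ conj (χ y) * χ t ^ 2 / χ 1 = 0`.
(The general-`p` version of the first identity of `Helper6.brauer_involution_identities`; same proof: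
the block part of the function induced from the indicator of `y` vanishes on the `p`-sections that
do not meet `y`, and `ω_χ(K_t)² ` is expanded by `Helper6.sum_classPowCount_char`.)
-/

set_option autoImplicit false
set_option linter.style.haveILetI false

namespace Cfsg.Agent.BL3

open Cfsg Cfsg.Agent.Helper6
open scoped ComplexConjugate

universe u

variable {G : Type u} [Group G] {M : Ideal Cfsg.AlgInt}

/-- **the identity (Q)** -/
theorem bl3_invol [Finite G] {p : ℕ} [hp : Fact p.Prime] (hM : Cfsg.IsPModular p M)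
    (P : Subgroup G) (hP : IsPGroup p P) (t : G) (ht : orderOf t = 2) (y : G) (hyP : y ∈ P)
    (hkey : ∀ g z x x' : G, IsConj t x → IsConj t x' → g = x * x' → Cfsg.IsPPart p g z →
      ∀ h : G, h * z * h⁻¹ ≠ y) :
    ∑ᶠ χ ∈ Cfsg.principalBlock M G,
      conj ((χ : G → ℂ) y) * (χ : G → ℂ) t ^ 2 / (χ : G → ℂ) 1 = 0 := by
  classical
  haveI := Fintype.ofFinite G
  haveI : Fintype P := Fintype.ofFinite _
  haveI : Finite (Cfsg.IrrCharacter G) := irr_finite
  haveI : Fintype (Cfsg.IrrCharacter G) := Fintype.ofFinite _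
  obtain ⟨B₀, hB₀def⟩ : ∃ B₀ : Set (Cfsg.IrrCharacter G), B₀ = Cfsg.principalBlock M G :=
    ⟨_, rfl⟩
  rw [← hB₀def]
  have hB₀ : Cfsg.IsPBlock M B₀ := by
    rw [hB₀def]
    exact ⟨⟨fun _ => 1, isIrrCharacter_one⟩, rfl⟩
  -- the indicator of `y` on `P`
  obtain ⟨θ, hθ⟩ : ∃ θ : P → ℂ, θ = fun u : P => if (u : G) = y then 1 else 0 := ⟨_, rfl⟩
  have hθU : ∀ u : P, (u : G) ∉ ({y} : Set G) → θ u = 0 := by
    intro u hu
    rw [hθ]
    simp only
    rw [if_neg]
    intro h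
    exact hu h
  obtain ⟨ϑ, hϑ⟩ : ∃ ϑ : G → ℂ, ϑ = Cfsg.indFun P θ := ⟨_, rfl⟩
  have hcardP : (Nat.card P : ℂ) ≠ 0 := by
    have : 0 < Nat.card P := Nat.card_pos
    exact_mod_cast this.ne'
  have ha : ∀ χ : Cfsg.IrrCharacter G,
      Cfsg.classInner ϑ (χ : G → ℂ) = (Nat.card P : ℂ)⁻¹ * conj ((χ : G → ℂ) y) := by
    intro χ
    rw [hϑ, ← brauerCoeff_eq_classInner P θ (IsIrrCharacter.isCharacter χ.2)]
    congr 1
    rw [Finset.sum_eq_single (⟨y, hyP⟩⁻¹ : P)]
    · rw [inv_inv, hθ]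
      simp only [if_true]
      rw [mul_one, Subgroup.coe_inv, IsCharacter.inv_eq_conj (IsIrrCharacter.isCharacter χ.2)]
    · intro u _ hu
      rw [hθ]
      simp only
      rw [if_neg, mul_zero]
      intro h
      apply hu
      have h1 : u⁻¹ = ⟨y, hyP⟩ := Subtype.ext h
      rw [← h1, inv_inv]
    · intro h
      exact absurd (Finset.mem_univ _) h
  have hvan : ∀ g z x x' : G, IsConj t x → IsConj t x' → g = x * x' → Cfsg.IsPPart p g z →
      ∑ᶠ χ ∈ B₀, Cfsg.classInner ϑ (χ : G → ℂ) * (χ : G → ℂ) g = 0 := by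
    intro g z x x' hx hx' hg hz
    rw [← blockPart_apply, hϑ]
    apply blockPart_indFun_eq_zero hM P hP ({y} : Set G) θ hθU B₀ hB₀ g z hz
    intro h hmem
    exact hkey g z x x' hx hx' hg hz h hmem
  obtain ⟨idx, hidx⟩ : ∃ idx : ℂ,
      idx = ((Subgroup.centralizer ({t} : Set G)).index : ℂ) := ⟨_, rfl⟩
  have hidx0 : idx ≠ 0 := by
    rw [hidx]
    have : (Subgroup.centralizer ({t} : Set G)).index ≠ 0 := Subgroup.index_ne_zero_of_finite
    exact_mod_cast this
  have hterm : ∀ χ : Cfsg.IrrCharacter G,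
      Cfsg.classInner ϑ (χ : G → ℂ) * (χ : G → ℂ) t ^ 2 / (χ : G → ℂ) 1 =
      (idx ^ 2)⁻¹ * ∑ u : G, (classPowCount t 2 u : ℂ) *
        (Cfsg.classInner ϑ (χ : G → ℂ) * (χ : G → ℂ) u) := by
    intro χ
    have h := sum_classPowCount_char χ t 2 1
    have hχ1 : (χ : G → ℂ) 1 ≠ 0 := IsIrrCharacter.apply_one_ne_zero χ.2
    have h2 : ∑ u : G, (classPowCount t 2 u : ℂ) *
        (Cfsg.classInner ϑ (χ : G → ℂ) * (χ : G → ℂ) u) =
        Cfsg.classInner ϑ (χ : G → ℂ) *
          ∑ u : G, (classPowCount t 2 u : ℂ) * (χ : G → ℂ) (u * 1) := by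
      rw [Finset.mul_sum]
      apply Finset.sum_congr rfl
      intro u _
      rw [mul_one]
      ring
    rw [h2, h]
    unfold Cfsg.centralChar
    rw [← hidx]
    field_simp
  -- rewrite the goal with `classInner`
  have hgoal : ∀ χ : Cfsg.IrrCharacter G,
      conj ((χ : G → ℂ) y) * (χ : G → ℂ) t ^ 2 / (χ : G → ℂ) 1 =
      (Nat.card P : ℂ) *
        (Cfsg.classInner ϑ (χ : G → ℂ) * (χ : G → ℂ) t ^ 2 / (χ : G → ℂ) 1) := by
    intro χ
    rw [ha]
    field_simp
  simp_rw [hgoal]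
  rw [finsum_mem_eq_sum_ite]
  have hsum : ∑ χ : Cfsg.IrrCharacter G, (if χ ∈ B₀ then (Nat.card P : ℂ) *
      (Cfsg.classInner ϑ (χ : G → ℂ) * (χ : G → ℂ) t ^ 2 / (χ : G → ℂ) 1) else 0) =
      (Nat.card P : ℂ) * ((idx ^ 2)⁻¹ * ∑ u : G, (classPowCount t 2 u : ℂ) *
        ∑ χ : Cfsg.IrrCharacter G, (if χ ∈ B₀ then
          Cfsg.classInner ϑ (χ : G → ℂ) * (χ : G → ℂ) u else 0)) := by
    simp_rw [hterm, Finset.mul_sum]
    rw [Finset.sum_comm]
    apply Finset.sum_congr rfl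
    intro χ _
    split_ifs
    · rfl
    · simp
  rw [hsum]
  have hzero : ∀ u : G, (classPowCount t 2 u : ℂ) *
      ∑ χ : Cfsg.IrrCharacter G, (if χ ∈ B₀ then
        Cfsg.classInner ϑ (χ : G → ℂ) * (χ : G → ℂ) u else 0) = 0 := by
    intro u
    by_cases hc : classPowCount t 2 u = 0
    · rw [hc, Nat.cast_zero, zero_mul]
    · obtain ⟨x, x', hx, hx', hu⟩ := exists_mul_of_classPowCount_two t u hc
      obtain ⟨z, hz⟩ := exists_isPPart p u
      have := hvan u z x x' hx hx' hu hz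
      rw [finsum_mem_eq_sum_ite] at this
      rw [this, mul_zero]
  simp_rw [hzero]
  rw [Finset.sum_const_zero, mul_zero, mul_zero]

end Cfsg.Agent.BL3
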