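import Mathlib
import Cfsg.Prelude.Def_Characters
import Cfsg.Agent.Helper6.RepEigen
import Cfsg.Agent.Helper6.CharBasic

/-!
# S4721: three small separable pieces for the assembly (headers of helper7, msg 7155)

* `bl3_ker`   : a non-principal irreducible character does not take its degree at an element `t` that lies
  in no proper normal subgroup.
* `bl3_int`   : the value of a character at an involution is a rational integer.
* `bl3_three` : a set with exactly three elements, one of them named.
-/

set_option autoImplicit false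
set_option linter.style.haveILetI false

namespace Cfsg.Agent.BL3

open Cfsg Cfsg.Agent.Helper6 Module
open scoped ComplexConjugate

universe u

/-- a natural number whose square (as a complex number) is `1` is `1` -/
theorem bl3_ker_nat_sq (n : ℕ) (h : (n : ℂ) * (n : ℂ) = 1) : n = 1 := by
  have h1 : n * n = 1 := by exact_mod_cast h
  exact Nat.eq_one_of_mul_eq_one_right h1

/-- a representation all of whose operators are the identity has constant character `n`, and if it is
irreducible then `n = 1` -/
theorem bl3_ker_triv {G : Type u} [Group G] [Finite G] {n : ℕ}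
    (ρ : Representation ℂ G (Fin n → ℂ)) (hirr : ρ.IsIrreducible)
    (h : ∀ g : G, ρ g = LinearMap.id) : ρ.character = fun _ => 1 := by
  classical
  haveI : Fintype G := Fintype.ofFinite G
  have hval : ∀ g : G, ρ.character g = (n : ℂ) := by
    intro g
    show LinearMap.trace ℂ _ (ρ g) = _
    rw [h g, LinearMap.trace_id]
    simp
  have hirrc : Cfsg.IsIrrCharacter G ρ.character := ⟨n, ρ, hirr, rfl⟩
  have h1 := classInner_irr_self hirrc
  unfold Cfsg.classInner at h1
  have h2 : ∑ g : G, ρ.character g * conj (ρ.character g) = (Nat.card G : ℂ) * ((n : ℂ) * (n : ℂ)) := by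
    rw [Finset.sum_congr rfl (fun g _ => by rw [hval g, Complex.conj_natCast])]
    rw [Finset.sum_const, Finset.card_univ, nsmul_eq_mul, Nat.card_eq_fintype_card]
  rw [h2] at h1
  have hG : (Nat.card G : ℂ) ≠ 0 := by
    have : Nat.card G ≠ 0 := Nat.card_pos.ne'
    exact_mod_cast this
  rw [← mul_assoc, inv_mul_cancel₀ hG, one_mul] at h1
  have hn : n = 1 := bl3_ker_nat_sq n h1
  funext g
  rw [hval g, hn]
  simp

/-- **`bl3_ker`**: a non-principal irreducible character does not take the value `χ 1` at an element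
lying in no proper normal subgroup. -/
theorem bl3_ker {G : Type u} [Group G] [Finite G] (χ : Cfsg.IrrCharacter G)
    (hχ : (χ : G → ℂ) ≠ fun _ => 1) (t : G)
    (htK : ∀ K : Subgroup G, K.Normal → t ∈ K → K = ⊤) :
    (χ : G → ℂ) t ≠ (χ : G → ℂ) 1 := by
  intro hval
  obtain ⟨χ, n, ρ, hirr, rfl⟩ := χ
  apply hχ
  show ρ.character = fun _ => 1
  have hmem : ∀ g : G, g ∈ MonoidHom.ker ρ ↔ ρ.character g = ρ.character 1 := by
    intro g
    rw [MonoidHom.mem_ker, Representation.char_one, char_eq_finrank_iff]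
    rfl
  have htop : MonoidHom.ker ρ = ⊤ :=
    htK _ (MonoidHom.normal_ker _) ((hmem t).mpr hval)
  apply bl3_ker_triv ρ hirr
  intro g
  have hg : g ∈ MonoidHom.ker ρ := by rw [htop]; exact Subgroup.mem_top g
  exact MonoidHom.mem_ker.mp hg

/-- a complex number with square `1` is `1` or `-1` -/
theorem bl3_int_sq_one (s : ℂ) (h : s ^ 2 = 1) : s = 1 ∨ s = -1 := by
  have h1 : (s - 1) * (s + 1) = 0 := by ring_nf; rw [h]; ring
  rcases mul_eq_zero.mp h1 with h2 | h2
  · left; exact sub_eq_zero.mp h2
  · right; exact eq_neg_of_add_eq_zero_left h2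

/-- **`bl3_int`**: the value of a character at an involution is a rational integer. -/
theorem bl3_int {G : Type u} [Group G] [Finite G] {χ : G → ℂ} (hχ : Cfsg.IsCharacter G χ) (t : G)
    (ht : orderOf t = 2) : ∃ v : ℤ, χ t = (v : ℂ) := by
  classical
  obtain ⟨n, ρ, rfl⟩ := hχ
  obtain ⟨ι, hι, b, μ, h1, h2, -⟩ := exists_eigenbasis_rep ρ t
  rw [ht] at h2
  have htr : ρ.character t = ∑ i, μ i := trace_eq_sum_of_eigenbasis b (ρ t) μ h1
  refine ⟨∑ i, (if μ i = 1 then (1 : ℤ) else -1), ?_⟩
  rw [htr, Int.cast_sum]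
  apply Finset.sum_congr rfl
  intro i _
  rcases bl3_int_sq_one (μ i) (h2 i) with h | h
  · rw [if_pos h, h]; simp
  · have hne : μ i ≠ 1 := by
      rw [h]
      norm_num
    rw [if_neg hne, h]; simp

/-- **`bl3_three`**: a set of cardinality `3` containing `x₁` is `{x₁, x₂, x₃}` with three distinct
elements. -/
theorem bl3_three {α : Type*} (X : Set α) (h3 : Nat.card X = 3) (x₁ : α) (h1 : x₁ ∈ X) :
    ∃ x₂ x₃ : α, x₂ ≠ x₁ ∧ x₃ ≠ x₁ ∧ x₂ ≠ x₃ ∧ X = {x₁, x₂, x₃} := by
  rw [Nat.card_coe_set_eq] at h3
  obtain ⟨a, b, c, hab, hac, hbc, rfl⟩ := Set.ncard_eq_three.mp h3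
  simp only [Set.mem_insert_iff, Set.mem_singleton_iff] at h1
  rcases h1 with rfl | rfl | rfl
  · exact ⟨b, c, hab.symm, hac.symm, hbc, rfl⟩
  · refine ⟨a, c, hab, hbc.symm, hac, ?_⟩
    ext z
    simp only [Set.mem_insert_iff, Set.mem_singleton_iff]
    tauto
  · refine ⟨a, b, hac, hbc, hab, ?_⟩
    ext z
    simp only [Set.mem_insert_iff, Set.mem_singleton_iff]
    tauto

end Cfsg.Agent.BL3
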