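import Mathlib
import Cfsg.Prelude.Def_Blocks
import Cfsg.Agent.Helper6.BLeoB
import Cfsg.Agent.Helper6.BLeoF
import Cfsg.Agent.Helper6.BrauerAppA

set_option autoImplicit false

/-!
S4721 (Brauer–Leonard, `|N:C| = 3`, involution clause): the KEY LEMMA.
`P` an abelian Sylow `p`-subgroup, `|N(P):C(P)| = 3` acting freely, `t` an involution, `y ∈ P^#` not conjugate
to `t`.  Then no element whose `p`-part is conjugate to `y` is a product of two conjugates of `t`
(`bl3_key`), and such a `y` exists when `|P| > 4` (`bl3_exists_y`).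
-/

namespace Cfsg.Agent.BL3

open Subgroup

universe u

variable {G : Type u} [Group G]

/-- the centraliser is normal in the normaliser -/
theorem bl3_key_normal (P : Subgroup G) :
    ((centralizer (P : Set G)).subgroupOf (normalizer (P : Set G))).Normal := by
  rw [normal_subgroupOf_iff_le_normalizer (centralizer_le_normalizer _)]
  intro n hn
  rw [mem_normalizer_iff]
  have key : ∀ m : G, m ∈ normalizer (P : Set G) → ∀ c : G, c ∈ centralizer (P : Set G) →
      m * c * m⁻¹ ∈ centralizer (P : Set G) := by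
    intro m hm c hc
    rw [mem_centralizer_iff] at hc ⊢
    intro x hx
    have hx' : m⁻¹ * x * m ∈ P := by
      have := (mem_normalizer_iff.mp (inv_mem hm) x).mp hx
      simpa using this
    have h1 := hc (m⁻¹ * x * m) hx'
    calc x * (m * c * m⁻¹) = m * ((m⁻¹ * x * m) * c) * m⁻¹ := by group
      _ = m * (c * (m⁻¹ * x * m)) * m⁻¹ := by rw [h1]
      _ = m * c * m⁻¹ * x := by group
  intro c
  constructor
  · intro hc; exact key n hn c hc
  · intro hc
    have := key n⁻¹ (inv_mem hn) _ hc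
    have h2 : n⁻¹ * (n * c * n⁻¹) * n⁻¹⁻¹ = c := by group
    rwa [h2] at this

/-- `n ∈ N(P)`, `|N:C| = 3`: `n ^ 3 ∈ C(P)` -/
theorem bl3_key_cube (P : Subgroup G)
    (hCN : (centralizer (P : Set G)).relIndex (normalizer (P : Set G)) = 3)
    (n : G) (hn : n ∈ normalizer (P : Set G)) : n ^ 3 ∈ centralizer (P : Set G) := by
  have := bl3_key_normal P
  have h := Subgroup.pow_index_mem ((centralizer (P : Set G)).subgroupOf (normalizer (P : Set G))) ⟨n, hn⟩
  rw [show ((centralizer (P : Set G)).subgroupOf (normalizer (P : Set G))).index = 3 from hCN] at h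
  rw [mem_subgroupOf] at h
  simpa using h

/-- an element of `N` whose square lies in `C` lies in `C` -/
theorem bl3_key_sq (P : Subgroup G)
    (hCN : (centralizer (P : Set G)).relIndex (normalizer (P : Set G)) = 3)
    (n : G) (hn : n ∈ normalizer (P : Set G)) (h2 : n ^ 2 ∈ centralizer (P : Set G)) :
    n ∈ centralizer (P : Set G) := by
  have h3 := bl3_key_cube P hCN n hn
  have : n = n ^ 3 * (n ^ 2)⁻¹ := by group
  rw [this]
  exact mul_mem h3 (inv_mem h2)

/-- the norm relation `u · α(u) · α²(u) = 1` for a free action of order 3 -/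
theorem bl3_key_norm (P : Subgroup G) (hab : ∀ a ∈ P, ∀ b ∈ P, a * b = b * a)
    (hCN : (centralizer (P : Set G)).relIndex (normalizer (P : Set G)) = 3)
    (hfrob : ∀ y : G, y ∈ P → y ≠ 1 →
      centralizer ({y} : Set G) ⊓ normalizer (P : Set G) = centralizer (P : Set G))
    (n : G) (hn : n ∈ normalizer (P : Set G)) (hnC : n ∉ centralizer (P : Set G))
    (u : G) (hu : u ∈ P) : u * (n * u * n⁻¹) * (n ^ 2 * u * (n ^ 2)⁻¹) = 1 := by
  have hconj : ∀ x : G, x ∈ P → n * x * n⁻¹ ∈ P := fun x hx => (mem_normalizer_iff.mp hn x).mp hx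
  have hu1 : n * u * n⁻¹ ∈ P := hconj u hu
  have hu2 : n ^ 2 * u * (n ^ 2)⁻¹ ∈ P := by
    have h := hconj _ hu1
    have e : n * (n * u * n⁻¹) * n⁻¹ = n ^ 2 * u * (n ^ 2)⁻¹ := by rw [pow_two]; group
    rwa [e] at h
  have h3 : n ^ 3 * u * (n ^ 3)⁻¹ = u := by
    have hc := bl3_key_cube P hCN n hn
    rw [mem_centralizer_iff] at hc
    have := hc u hu
    calc n ^ 3 * u * (n ^ 3)⁻¹ = (u * n ^ 3) * (n ^ 3)⁻¹ := by rw [this]
      _ = u := by group
  set v : G := u * (n * u * n⁻¹) * (n ^ 2 * u * (n ^ 2)⁻¹) with hv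
  have hvP : v ∈ P := mul_mem (mul_mem hu hu1) hu2
  have hfix : n * v * n⁻¹ = v := by
    have e : n * v * n⁻¹ = (n * u * n⁻¹) * (n ^ 2 * u * (n ^ 2)⁻¹) * (n ^ 3 * u * (n ^ 3)⁻¹) := by
      rw [hv]; group
    rw [e, h3, hv]
    have c2 := hab _ (mul_mem hu1 hu2) _ hu
    rw [c2]
    exact (mul_assoc _ _ _).symm
  by_contra hne
  exact Cfsg.Agent.Helper6.BLeo.free_of_frob P hfrob n hn hnC v hvP hne hfix

/-- a cyclic group generated by an element of `p`-power order is a `p`-group -/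
theorem bl3_key_zpowers {p : ℕ} (x : G) (k : ℕ) (hx : x ^ (p ^ k) = 1) : IsPGroup p (zpowers x) := by
  rintro ⟨g, hg⟩
  obtain ⟨i, rfl⟩ := mem_zpowers_iff.mp hg
  refine ⟨k, ?_⟩
  apply Subtype.ext
  show (x ^ i) ^ (p ^ k) = 1
  rw [← zpow_natCast, ← zpow_mul, mul_comm, zpow_mul, zpow_natCast, hx, one_zpow]

end Cfsg.Agent.BL3
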