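import Mathlib
import Cfsg.Agent.BL3.KeyA

set_option autoImplicit false

/-!
S4721 (Brauer–Leonard, `|N:C| = 3`, involution clause): the KEY LEMMA `bl3_key` and `bl3_exists_y`.
-/

namespace Cfsg.Agent.BL3

open Subgroup
open scoped Pointwise

universe u

variable {G : Type u} [Group G]

/-- commutativity of a Sylow subgroup in element form -/
theorem bl3_key_comm {p : ℕ} (P : Sylow p G) (hab : IsMulCommutative P) :
    ∀ a ∈ (P : Subgroup G), ∀ b ∈ (P : Subgroup G), a * b = b * a := by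
  intro a ha b hb
  have h := hab.is_comm.comm (⟨a, ha⟩ : P) ⟨b, hb⟩
  exact congrArg Subtype.val h

/-- the odd case of the key lemma: `y ∈ P^#` is not conjugate to its inverse unless `y² = 1` -/
theorem bl3_key_odd [Finite G] {p : ℕ} [Fact p.Prime] (P : Sylow p G)
    (hab : ∀ a ∈ (P : Subgroup G), ∀ b ∈ (P : Subgroup G), a * b = b * a)
    (hCN : (centralizer ((P : Subgroup G) : Set G)).relIndex (normalizer ((P : Subgroup G) : Set G)) = 3)
    (hfrob : ∀ y : G, y ∈ (P : Subgroup G) → y ≠ 1 →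
      centralizer ({y} : Set G) ⊓ normalizer ((P : Subgroup G) : Set G) =
        centralizer ((P : Subgroup G) : Set G))
    (y : G) (hyP : y ∈ (P : Subgroup G)) (hy1 : y ≠ 1) (a : G) (ha : a * y * a⁻¹ = y⁻¹) :
    y * y = 1 := by
  have hyinv : a * y * a⁻¹ ∈ (P : Subgroup G) := by rw [ha]; exact inv_mem hyP
  obtain ⟨n, hn, hny⟩ := Cfsg.Agent.Helper6.BLeo.fusion_in_normalizer P hab y hyP a hyinv
  rw [ha] at hny
  -- `n²` centralises `y`
  have hn2y : n ^ 2 * y * (n ^ 2)⁻¹ = y := by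
    have e : n ^ 2 * y * (n ^ 2)⁻¹ = n * (n * y * n⁻¹) * n⁻¹ := by rw [pow_two]; group
    rw [e, hny]
    have e2 : n * y⁻¹ * n⁻¹ = (n * y * n⁻¹)⁻¹ := by group
    rw [e2, hny, inv_inv]
  have hn2N : n ^ 2 ∈ normalizer ((P : Subgroup G) : Set G) := pow_mem hn 2
  have hn2C : n ^ 2 ∈ centralizer ((P : Subgroup G) : Set G) := by
    rw [← hfrob y hyP hy1]
    refine mem_inf.mpr ⟨?_, hn2N⟩
    rw [mem_centralizer_iff]
    intro h hh
    rw [Set.mem_singleton_iff] at hh
    subst hh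
    calc h * n ^ 2 = (n ^ 2 * h * (n ^ 2)⁻¹) * n ^ 2 := by rw [hn2y]
      _ = n ^ 2 * h := by group
  have hnC := bl3_key_sq (P : Subgroup G) hCN n hn hn2C
  rw [mem_centralizer_iff] at hnC
  have h1 := hnC y hyP
  have h2 : n * y * n⁻¹ = y := by
    calc n * y * n⁻¹ = (y * n) * n⁻¹ := by rw [h1]
      _ = y := by group
  rw [h2] at hny
  calc y * y = y * y⁻¹ := by rw [← hny]
    _ = 1 := mul_inv_cancel y

theorem bl3_key {G : Type u} [Group G] [Finite G] (p : ℕ) [Fact p.Prime] (P : Sylow p G) (hab : IsMulCommutative P)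
    (hCN : (Subgroup.centralizer ((P : Subgroup G) : Set G)).relIndex (Subgroup.normalizer ((P : Subgroup G) : Set G)) = 3)
    (hfrob : ∀ y : G, y ∈ (P : Subgroup G) → y ≠ 1 → Subgroup.centralizer ({y} : Set G) ⊓ Subgroup.normalizer ((P : Subgroup G) : Set G) = Subgroup.centralizer ((P : Subgroup G) : Set G))
    (t : G) (ht : orderOf t = 2) (y : G) (hyP : y ∈ (P : Subgroup G)) (hy1 : y ≠ 1) (hyt : ∀ g : G, g * y * g⁻¹ ≠ t)
    (g z : G) (hpp : Cfsg.IsPPart p g z) (hz : ∃ c : G, c * z * c⁻¹ = y) (t1 t2 : G)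
    (h1 : ∃ c : G, c * t * c⁻¹ = t1) (h2 : ∃ c : G, c * t * c⁻¹ = t2) : g ≠ t1 * t2 := by
  classical
  intro hg
  have hpp' : p.Prime := Fact.out
  have hcomm := bl3_key_comm P hab
  have htt : t * t = 1 := by
    have := pow_orderOf_eq_one t
    rw [ht, pow_two] at this
    exact this
  have ht1 : t ≠ 1 := by
    intro h; rw [h, orderOf_one] at ht; omega
  obtain ⟨c1, hc1⟩ := h1
  obtain ⟨c2, hc2⟩ := h2
  obtain ⟨c0, hc0⟩ := hz
  have ht1sq : t1 * t1 = 1 := by
    rw [← hc1]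
    calc c1 * t * c1⁻¹ * (c1 * t * c1⁻¹) = c1 * (t * t) * c1⁻¹ := by group
      _ = 1 := by rw [htt]; group
  have ht2sq : t2 * t2 = 1 := by
    rw [← hc2]
    calc c2 * t * c2⁻¹ * (c2 * t * c2⁻¹) = c2 * (t * t) * c2⁻¹ := by group
      _ = 1 := by rw [htt]; group
  have ht1inv : t1⁻¹ = t1 := inv_eq_of_mul_eq_one_right ht1sq
  have ht2inv : t2⁻¹ = t2 := inv_eq_of_mul_eq_one_right ht2sq
  -- `t1` inverts `g`, hence its `p`-part
  have hginv : t1 * g * t1⁻¹ = g⁻¹ := by
    rw [hg, mul_inv_rev, ht1inv, ht2inv]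
    calc t1 * (t1 * t2) * t1 = (t1 * t1) * t2 * t1 := by group
      _ = t2 * t1 := by rw [ht1sq, one_mul]
  have hzinv : t1 * z * t1⁻¹ = z⁻¹ := Cfsg.Agent.Helper6.isPPart_inverted hpp hginv
  have hz1 : z ≠ 1 := by
    intro h
    apply hy1
    rw [← hc0, h]; group
  by_cases hp2 : p = 2
  swap
  · -- `p` odd
    have hyy : y * y = 1 := by
      apply bl3_key_odd P hcomm hCN hfrob y hyP hy1 (c0 * t1 * c0⁻¹)
      rw [← hc0]
      calc c0 * t1 * c0⁻¹ * (c0 * z * c0⁻¹) * (c0 * t1 * c0⁻¹)⁻¹ = c0 * (t1 * z * t1⁻¹) * c0⁻¹ := by group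
        _ = (c0 * z * c0⁻¹)⁻¹ := by rw [hzinv]; group
    obtain ⟨k, hk⟩ := P.isPGroup' ⟨y, hyP⟩
    have hk' : y ^ (p ^ k) = 1 := by
      have := congrArg Subtype.val hk
      simpa using this
    have h2' : y ^ 2 = 1 := by rw [pow_two]; exact hyy
    have hgcd : y ^ (Nat.gcd 2 (p ^ k)) = 1 := pow_gcd_eq_one.mpr ⟨h2', hk'⟩
    have hcop : Nat.gcd 2 (p ^ k) = 1 := by
      apply Nat.Coprime.pow_right
      exact (Nat.coprime_primes Nat.prime_two hpp').mpr (Ne.symm hp2)
    rw [hcop, pow_one] at hgcd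
    exact hy1 hgcd
  · -- `p = 2`
    subst hp2
    obtain ⟨w, hzw, hcw, ⟨k, hk⟩, hwodd⟩ := hpp
    have hzk : z ^ (2 ^ k) = 1 := by rw [← hk]; exact pow_orderOf_eq_one z
    -- `⟨t1⟩⟨z⟩` is a 2-group
    have hP1 : IsPGroup 2 (zpowers t1) := bl3_key_zpowers t1 1 (by rw [pow_one, pow_two]; exact ht1sq)
    have hP2 : IsPGroup 2 (zpowers z) := bl3_key_zpowers z k hzk
    have hnorm : zpowers t1 ≤ normalizer ((zpowers z : Subgroup G) : Set G) := by
      rw [zpowers_le]
      rw [mem_normalizer_iff]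
      intro x
      have hconj : ∀ x : G, x ∈ zpowers z → t1 * x * t1⁻¹ ∈ zpowers z := by
        intro x hx
        obtain ⟨i, rfl⟩ := mem_zpowers_iff.mp hx
        have : t1 * z ^ i * t1⁻¹ = (t1 * z * t1⁻¹) ^ i := by
          rw [conj_zpow]
        rw [this, hzinv]
        exact zpow_mem (inv_mem (mem_zpowers z)) i
      constructor
      · exact hconj x
      · intro hx
        have := hconj _ hx
        have e : t1 * (t1 * x * t1⁻¹) * t1⁻¹ = x := by
          rw [ht1inv]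
          calc t1 * (t1 * x * t1) * t1 = (t1 * t1) * x * (t1 * t1) := by group
            _ = x := by rw [ht1sq]; group
        rwa [e] at this
    have hD : IsPGroup 2 (zpowers t1 ⊔ zpowers z : Subgroup G) := IsPGroup.to_sup_of_normal_right' hP1 hP2 hnorm
    obtain ⟨Q, hQ⟩ := hD.exists_le_sylow
    obtain ⟨c, hc⟩ := MulAction.exists_smul_eq G P Q
    -- move into `P`
    have hQP : (Q : Subgroup G) = MulAut.conj c • (P : Subgroup G) := by
      rw [← hc, Sylow.smul_def, Sylow.pointwise_smul_def]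
    have hmove : ∀ x : G, x ∈ (Q : Subgroup G) → c⁻¹ * x * c ∈ (P : Subgroup G) := by
      intro x hx
      rw [hQP, Subgroup.mem_pointwise_smul_iff_inv_smul_mem] at hx
      simpa [MulAut.smul_def, MulAut.conj_inv_apply] using hx
    set s : G := c⁻¹ * t1 * c with hs
    set z' : G := c⁻¹ * z * c with hz'
    have hsP : s ∈ (P : Subgroup G) := hmove t1 (hQ (le_sup_left (a := zpowers t1) (mem_zpowers t1)))
    have hz'P : z' ∈ (P : Subgroup G) := hmove z (hQ (le_sup_right (b := zpowers z) (mem_zpowers z)))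
    have hssq : s * s = 1 := by
      rw [hs]
      calc c⁻¹ * t1 * c * (c⁻¹ * t1 * c) = c⁻¹ * (t1 * t1) * c := by group
        _ = 1 := by rw [ht1sq]; group
    have hz'1 : z' ≠ 1 := by
      intro h
      apply hz1
      have : z = c * z' * c⁻¹ := by rw [hz']; group
      rw [this, h]; group
    -- `z'` is an involution
    have hz'inv : z'⁻¹ = z' := by
      have h3 : s * z' * s⁻¹ = z'⁻¹ := by
        rw [hs, hz']
        calc c⁻¹ * t1 * c * (c⁻¹ * z * c) * (c⁻¹ * t1 * c)⁻¹ = c⁻¹ * (t1 * z * t1⁻¹) * c := by group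
          _ = (c⁻¹ * z * c)⁻¹ := by rw [hzinv]; group
      have h4 : s * z' = z' * s := hcomm s hsP z' hz'P
      rw [h4] at h3
      rw [← h3]; group
    have hz'sq : z' * z' = 1 := by
      calc z' * z' = z' * z'⁻¹ := by rw [hz'inv]
        _ = 1 := mul_inv_cancel z'
    have hzinv' : z⁻¹ = z := by
      have : z = c * z' * c⁻¹ := by rw [hz']; group
      rw [this]
      calc (c * z' * c⁻¹)⁻¹ = c * z'⁻¹ * c⁻¹ := by group
        _ = c * z' * c⁻¹ := by rw [hz'inv]
    have ht1z : t1 * z = z * t1 := by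
      have h5 := hzinv
      rw [hzinv'] at h5
      calc t1 * z = (t1 * z * t1⁻¹) * t1 := by group
        _ = z * t1 := by rw [h5]
    -- `t1` inverts `w`
    have hwg : w = z⁻¹ * g := by rw [← hzw]; group
    have hwinv : t1 * w * t1⁻¹ = w⁻¹ := by
      rw [hwg]
      calc t1 * (z⁻¹ * g) * t1⁻¹ = (t1 * z * t1⁻¹)⁻¹ * (t1 * g * t1⁻¹) := by group
        _ = z * g⁻¹ := by rw [hzinv, hginv, inv_inv]
        _ = (z⁻¹ * g)⁻¹ := by
          have hzg : Commute z g := by rw [← hzw]; exact (Commute.refl z).mul_right hcw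
          rw [mul_inv_rev, inv_inv]
          exact hzg.inv_right.eq
    -- `t2 = t1 g` is conjugate to `t1 z`
    have ht2 : t2 = t1 * g := by
      rw [hg]
      calc t2 = (t1 * t1) * t2 := by rw [ht1sq, one_mul]
        _ = t1 * (t1 * t2) := by group
    set m := orderOf w with hm
    have hmodd : m % 2 = 1 := by
      rcases Nat.even_or_odd m with he | ho
      · exact absurd he.two_dvd hwodd
      · exact Nat.odd_iff.mp ho
    set j : ℕ := (m + 1) / 2 with hj
    have h2j : 2 * j = m + 1 := by omega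
    set h : G := w ^ j with hh
    have hhsq : h * h = w := by
      rw [hh, ← pow_add, ← two_mul, h2j, pow_succ, hm, pow_orderOf_eq_one, one_mul]
    have hth : t1 * h * t1⁻¹ = h⁻¹ := by
      rw [hh, ← conj_pow, hwinv, inv_pow]
    have hzh : z * h = h * z := by
      rw [hh]
      exact (hcw.pow_right j).eq
    have hconj2 : h⁻¹ * (t1 * z) * h = t2 := by
      have e1 : h⁻¹ * t1 = t1 * h := by
        calc h⁻¹ * t1 = (t1 * h * t1⁻¹) * t1 := by rw [hth]
          _ = t1 * h := by group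
      calc h⁻¹ * (t1 * z) * h = (h⁻¹ * t1) * (z * h) := by group
        _ = (t1 * h) * (h * z) := by rw [e1, hzh]
        _ = t1 * (h * h) * z := by group
        _ = t1 * (z * w) := by rw [hhsq, mul_assoc, ← hcw.eq]
        _ = t2 := by rw [hzw, ht2]
    -- `s` and `s z'` are both conjugate to `t`, and lie in `P`
    have hsz'P : s * z' ∈ (P : Subgroup G) := mul_mem hsP hz'P
    have hs_conj : (c⁻¹ * c1) * t * (c⁻¹ * c1)⁻¹ = s := by
      rw [hs, ← hc1]; group
    have hsz'_conj : (c⁻¹ * h * c2) * t * (c⁻¹ * h * c2)⁻¹ = s * z' := by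
      rw [hs, hz']
      have : t1 * z = h * t2 * h⁻¹ := by rw [← hconj2]; group
      calc c⁻¹ * h * c2 * t * (c⁻¹ * h * c2)⁻¹ = c⁻¹ * (h * (c2 * t * c2⁻¹) * h⁻¹) * c := by group
        _ = c⁻¹ * (t1 * z) * c := by rw [hc2, this]
        _ = c⁻¹ * t1 * c * (c⁻¹ * z * c) := by group
    -- fusion: `s z' = n s n⁻¹` with `n ∈ N`
    set a : G := (c⁻¹ * h * c2) * (c⁻¹ * c1)⁻¹ with ha
    have has : a * s * a⁻¹ = s * z' := by
      rw [ha, ← hsz'_conj, ← hs_conj]; group
    obtain ⟨n, hn, hns⟩ := Cfsg.Agent.Helper6.BLeo.fusion_in_normalizer P hcomm s hsP a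
      (by rw [has]; exact hsz'P)
    rw [has] at hns
    have hnC : n ∉ centralizer ((P : Subgroup G) : Set G) := by
      intro hC
      rw [mem_centralizer_iff] at hC
      have h1 := hC s hsP
      have h2 : n * s * n⁻¹ = s := by
        calc n * s * n⁻¹ = (s * n) * n⁻¹ := by rw [h1]
          _ = s := by group
      rw [h2] at hns
      apply hz'1
      calc z' = s⁻¹ * (s * z') := by group
        _ = s⁻¹ * s := by rw [← hns]
        _ = 1 := by group
    have hnorm3 := bl3_key_norm (P : Subgroup G) hcomm hCN hfrob n hn hnC s hsP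
    rw [hns] at hnorm3
    -- `z' = n² s n⁻²`
    have hz'eq : n ^ 2 * s * (n ^ 2)⁻¹ = z' := by
      have e : s * (s * z') * (n ^ 2 * s * (n ^ 2)⁻¹) = z' * (n ^ 2 * s * (n ^ 2)⁻¹) := by
        calc s * (s * z') * (n ^ 2 * s * (n ^ 2)⁻¹) = (s * s) * z' * (n ^ 2 * s * (n ^ 2)⁻¹) := by group
          _ = z' * (n ^ 2 * s * (n ^ 2)⁻¹) := by rw [hssq, one_mul]
      rw [e] at hnorm3
      calc n ^ 2 * s * (n ^ 2)⁻¹ = z'⁻¹ * (z' * (n ^ 2 * s * (n ^ 2)⁻¹)) := by group
        _ = z'⁻¹ := by rw [hnorm3, mul_one]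
        _ = z' := hz'inv
    -- so `y ~ z ~ z' ~ s ~ t`
    apply hyt ((c⁻¹ * c1)⁻¹ * (n ^ 2)⁻¹ * c⁻¹ * c0⁻¹)
    rw [← hc0]
    have e1 : (c⁻¹ * c1)⁻¹ * (n ^ 2)⁻¹ * c⁻¹ * c0⁻¹ * (c0 * z * c0⁻¹) * ((c⁻¹ * c1)⁻¹ * (n ^ 2)⁻¹ * c⁻¹ * c0⁻¹)⁻¹
        = (c⁻¹ * c1)⁻¹ * ((n ^ 2)⁻¹ * (c⁻¹ * z * c) * n ^ 2) * (c⁻¹ * c1) := by group
    rw [e1, ← hz', ← hz'eq]
    have e2 : (n ^ 2)⁻¹ * (n ^ 2 * s * (n ^ 2)⁻¹) * n ^ 2 = s := by group
    rw [e2, ← hs_conj]
    group

/-- a non-identity element of `P` that is not conjugate to the involution `t` -/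
theorem bl3_exists_y {G : Type u} [Group G] [Finite G] (p : ℕ) [Fact p.Prime] (P : Sylow p G) (hab : IsMulCommutative P)
    (hCN : (Subgroup.centralizer ((P : Subgroup G) : Set G)).relIndex (Subgroup.normalizer ((P : Subgroup G) : Set G)) = 3)
    (hfrob : ∀ y : G, y ∈ (P : Subgroup G) → y ≠ 1 → Subgroup.centralizer ({y} : Set G) ⊓ Subgroup.normalizer ((P : Subgroup G) : Set G) = Subgroup.centralizer ((P : Subgroup G) : Set G))
    (hm2 : 3 + 1 < Nat.card P) (t : G) (ht : orderOf t = 2) :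
    ∃ y : G, y ∈ (P : Subgroup G) ∧ y ≠ 1 ∧ ∀ g : G, g * y * g⁻¹ ≠ t := by
  classical
  have hpp' : p.Prime := Fact.out
  have hcomm := bl3_key_comm P hab
  have htt : t * t = 1 := by
    have := pow_orderOf_eq_one t
    rw [ht, pow_two] at this
    exact this
  by_contra hno
  push Not at hno
  -- every non-identity element of `P` is conjugate to `t`
  have hall : ∀ y : G, y ∈ (P : Subgroup G) → y ≠ 1 → ∃ g : G, g * y * g⁻¹ = t := hno
  -- a non-identity element `s`
  have hne : ∃ s : G, s ∈ (P : Subgroup G) ∧ s ≠ 1 := by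
    by_contra h
    push Not at h
    have hbot : (P : Subgroup G) = ⊥ := by
      rw [Subgroup.eq_bot_iff_forall]; exact h
    have : Nat.card P = 1 := by
      rw [show Nat.card P = Nat.card (P : Subgroup G) from rfl, hbot, Subgroup.card_bot]
    omega
  obtain ⟨s, hsP, hs1⟩ := hne
  obtain ⟨gs, hgs⟩ := hall s hsP hs1
  -- every non-identity element of `P` is an `N`-conjugate of `s`
  have hN : ∀ v : G, v ∈ (P : Subgroup G) → v ≠ 1 →
      ∃ n : G, n ∈ normalizer ((P : Subgroup G) : Set G) ∧ n * s * n⁻¹ = v := by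
    intro v hvP hv1
    obtain ⟨gv, hgv⟩ := hall v hvP hv1
    have e : (gv⁻¹ * gs) * s * (gv⁻¹ * gs)⁻¹ = v := by
      calc (gv⁻¹ * gs) * s * (gv⁻¹ * gs)⁻¹ = gv⁻¹ * (gs * s * gs⁻¹) * gv := by group
        _ = gv⁻¹ * (gv * v * gv⁻¹) * gv := by rw [hgs, hgv]
        _ = v := by group
    obtain ⟨n, hn, hns⟩ := Cfsg.Agent.Helper6.BLeo.fusion_in_normalizer P hcomm s hsP (gv⁻¹ * gs)
      (by rw [e]; exact hvP)
    exact ⟨n, hn, hns.trans e⟩
  -- inject `P` into `Option (N ⧸ C)`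
  set N : Subgroup G := normalizer ((P : Subgroup G) : Set G) with hNdef
  set C' : Subgroup N := (centralizer ((P : Subgroup G) : Set G)).subgroupOf N with hC'
  have hidx : Nat.card (N ⧸ C') = 3 := hCN
  let F : ↥(P : Subgroup G) → Option (N ⧸ C') := fun v =>
    if h : (v : G) = 1 then none
    else some (QuotientGroup.mk ⟨Classical.choose (hN v.1 v.2 h), (Classical.choose_spec (hN v.1 v.2 h)).1⟩)
  have hF : Function.Injective F := by
    intro v v' hvv
    by_cases h : (v : G) = 1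
    · by_cases h' : (v' : G) = 1
      · exact Subtype.ext (h.trans h'.symm)
      · simp only [F, dif_pos h, dif_neg h'] at hvv
        exact absurd hvv (by simp)
    · by_cases h' : (v' : G) = 1
      · simp only [F, dif_neg h, dif_pos h'] at hvv
        exact absurd hvv (by simp)
      · simp only [F, dif_neg h, dif_neg h', Option.some.injEq] at hvv
        rw [QuotientGroup.eq] at hvv
        set n := Classical.choose (hN v.1 v.2 h) with hn
        set n' := Classical.choose (hN v'.1 v'.2 h') with hn'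
        have hns : n * s * n⁻¹ = v := (Classical.choose_spec (hN v.1 v.2 h)).2
        have hns' : n' * s * n'⁻¹ = v' := (Classical.choose_spec (hN v'.1 v'.2 h')).2
        have hmemC : n⁻¹ * n' ∈ centralizer ((P : Subgroup G) : Set G) := by
          have := hvv
          rw [hC', mem_subgroupOf] at this
          simpa using this
        rw [mem_centralizer_iff] at hmemC
        have hc := hmemC s hsP
        apply Subtype.ext
        rw [← hns, ← hns']
        have e : n' = n * (n⁻¹ * n') := by group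
        rw [e]
        calc n * s * n⁻¹ = n * (s * (n⁻¹ * n')) * (n⁻¹ * n')⁻¹ * n⁻¹ := by group
          _ = n * ((n⁻¹ * n') * s) * (n⁻¹ * n')⁻¹ * n⁻¹ := by rw [hc]
          _ = n * (n⁻¹ * n') * s * (n * (n⁻¹ * n'))⁻¹ := by group
  have hcard := Nat.card_le_card_of_injective F hF
  rw [Finite.card_option, hidx] at hcard
  have : Nat.card P = Nat.card (P : Subgroup G) := rfl
  omega

end Cfsg.Agent.BL3
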