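/-
S4721 (Brauer-Leonard for |N:C| = 3 + involution clause; architect helper7), the Y-SUMS (helper4).
`D : bl3_Data p M P X Y a δ ζ` (helper6, BL3/Data.lean).  For `y ∈ P^#`:
 (Y1) `bl3_ysum`  : `Σ_{η ∈ Y} conj η(y) = -δ`   (`bl3_ysum'` unconjugated);
 (Y2) `bl3_ysum_two` : for an involution `t0 ∈ P` and `y ∈ P^#` not `N`-conjugate to `t0`:
      `Σ_{η ∈ Y} conj η(y) η(t0)² = -9 δ`.
Tools: `bl3_group` (grouping the non-principal linear characters of `P` by `ζ`),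
`bl3_orbSum_mul_card` (`|C| · orbit sum = Σ_{x ∈ N} ψ(w^x)`), `bl3_prod_ne` (the product of two
`N`-conjugates of `t0` is never `y`, from helper8's `bl3_key_norm`), `bl3_double_sum`.
-/
import Mathlib
import Cfsg.Prelude.Def_Blocks
import Cfsg.Agent.Helper6.BLeoJ
import Cfsg.Agent.BL3.Key
import Cfsg.Agent.BL3.Data

set_option autoImplicit false
set_option linter.style.haveILetI false
set_option linter.unusedSectionVars false
set_option linter.unusedVariables false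

namespace Cfsg.Agent.BL3

open Cfsg Cfsg.Agent.Helper6 Cfsg.Agent.Helper6.BLeo

open scoped ComplexConjugate

universe u

section ysum

variable {G : Type u} [Group G] [Finite G] {p : ℕ} [hpF : Fact p.Prime] {M : Ideal Cfsg.AlgInt}
  {P : Sylow p G} {X Y : Set (Cfsg.IrrCharacter G)} {a : Cfsg.IrrCharacter G → ℤ} {δ : ℤ}
  {ζ : (↥(P : Subgroup G) →* ℂˣ) → Cfsg.IrrCharacter G}

/-- the orbit sum of the statement -/
noncomputable def bl3_orbSum (P : Sylow p G) (ψ : ↥(P : Subgroup G) →* ℂˣ)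
    (w : ↥(P : Subgroup G)) : ℂ :=
  ∑ᶠ ψ' ∈ {ψ' : ↥(P : Subgroup G) →* ℂˣ | ∃ n : G,
    n ∈ Subgroup.normalizer ((P : Subgroup G) : Set G) ∧
      ∀ w w' : ↥(P : Subgroup G), (w' : G) = n * w * n⁻¹ → ψ' w' = ψ w}, ((ψ' w : ℂˣ) : ℂ)

/-- an element of `P` is its own `p`-part -/
theorem bl3_isPPart_self (w : ↥(P : Subgroup G)) : Cfsg.IsPPart p (w : G) (w : G) := by
  refine ⟨1, mul_one _, Commute.one_right _, ?_, ?_⟩
  · obtain ⟨k, hk⟩ := (IsPGroup.iff_orderOf.mp P.isPGroup') w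
    exact ⟨k, by rw [← hk, Subgroup.orderOf_coe]⟩
  · rw [orderOf_one]
    exact hpF.out.one_lt.ne' ∘ Nat.dvd_one.mp

/-- values of the exceptional characters on `P^#` -/
theorem bl3_val_Y_P (D : bl3_Data p M P X Y a δ ζ) (ψ : ↥(P : Subgroup G) →* ℂˣ) (hψ : ψ ≠ 1)
    (w : ↥(P : Subgroup G)) (hw : (w : G) ≠ 1) :
    (ζ ψ : G → ℂ) (w : G) = (δ : ℂ) * bl3_orbSum P ψ w :=
  D.val_Y ψ hψ (w : G) w (bl3_isPPart_self w) hw

theorem bl3_delta_sq (D : bl3_Data p M P X Y a δ ζ) : (δ : ℂ) * (δ : ℂ) = 1 := by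
  rcases D.delta with h | h <;> rw [h] <;> norm_num

theorem bl3_orbSum_eq (D : bl3_Data p M P X Y a δ ζ) (ψ : ↥(P : Subgroup G) →* ℂˣ) (hψ : ψ ≠ 1)
    (w : ↥(P : Subgroup G)) (hw : (w : G) ≠ 1) :
    bl3_orbSum P ψ w = (δ : ℂ) * (ζ ψ : G → ℂ) (w : G) := by
  rw [bl3_val_Y_P D ψ hψ w hw, ← mul_assoc, bl3_delta_sq D, one_mul]

end ysum

section grouping

variable {G : Type u} [Group G] [Finite G] {p : ℕ} [hpF : Fact p.Prime] {M : Ideal Cfsg.AlgInt}
  {P : Sylow p G} {X Y : Set (Cfsg.IrrCharacter G)} {a : Cfsg.IrrCharacter G → ℤ} {δ : ℤ}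
  {ζ : (↥(P : Subgroup G) →* ℂˣ) → Cfsg.IrrCharacter G}

open Classical in
theorem bl3_finsum_filter {α : Type*} [Fintype α] (s : Set α) (f : α → ℂ) :
    ∑ᶠ i ∈ s, f i = ∑ i ∈ Finset.univ.filter (· ∈ s), f i := by
  apply finsum_mem_eq_sum_of_subset
  · intro x hx
    simp only [Finset.coe_filter, Finset.mem_univ, true_and, Set.mem_ofPred_eq]
    exact hx.1
  · intro x hx
    simpa using hx

open Classical in
/-- the fibre of `ζ` over `ζ ψ₀` is the orbit of `ψ₀` -/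
theorem bl3_fibre (D : bl3_Data p M P X Y a δ ζ) [Fintype (↥(P : Subgroup G) →* ℂˣ)]
    (ψ₀ : ↥(P : Subgroup G) →* ℂˣ) (hψ₀ : ψ₀ ≠ 1) :
    (Finset.univ.filter (· ≠ 1)).filter (fun ψ : ↥(P : Subgroup G) →* ℂˣ => ζ ψ = ζ ψ₀) =
      Finset.univ.filter (· ∈ {ψ' : ↥(P : Subgroup G) →* ℂˣ | ∃ n : G,
        n ∈ Subgroup.normalizer ((P : Subgroup G) : Set G) ∧
          ∀ w w' : ↥(P : Subgroup G), (w' : G) = n * w * n⁻¹ → ψ' w' = ψ₀ w}) := by
  ext ψ
  simp only [Finset.mem_filter, Finset.mem_univ, true_and, Set.mem_ofPred_eq]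
  constructor
  · rintro ⟨h1, h2⟩
    exact (D.zeta_iff ψ₀ ψ hψ₀ h1).mp h2
  · intro h
    have h1 : ψ ≠ 1 := ne_one_of_rel (P : Subgroup G) ψ₀ ψ hψ₀ h
    exact ⟨h1, (D.zeta_iff ψ₀ ψ hψ₀ h1).mpr h⟩

open Classical in
/-- grouping the non-principal linear characters of `P` by their exceptional character -/
theorem bl3_group (D : bl3_Data p M P X Y a δ ζ) [Fintype (↥(P : Subgroup G) →* ℂˣ)]
    (y : ↥(P : Subgroup G)) (hy : (y : G) ≠ 1) (F : Cfsg.IrrCharacter G → ℂ) :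
    ∑ ψ ∈ Finset.univ.filter (fun ψ : ↥(P : Subgroup G) →* ℂˣ => ψ ≠ 1),
        conj ((ψ y : ℂˣ) : ℂ) * F (ζ ψ) =
      (δ : ℂ) * ∑ᶠ η ∈ Y, conj ((η : G → ℂ) (y : G)) * F η := by
  haveI : Finite (Cfsg.IrrCharacter G) := irr_finite
  haveI : Fintype (Cfsg.IrrCharacter G) := Fintype.ofFinite _
  rw [bl3_finsum_filter, Finset.mul_sum]
  rw [← Finset.sum_fiberwise_of_maps_to (s := Finset.univ.filter
      (fun ψ : ↥(P : Subgroup G) →* ℂˣ => ψ ≠ 1)) (t := Finset.univ.filter (· ∈ Y)) (g := ζ)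
    (fun ψ hψ => by
      simp only [Finset.mem_filter, Finset.mem_univ, true_and] at hψ ⊢
      exact D.zeta_mem ψ hψ)]
  apply Finset.sum_congr rfl
  intro η hη
  simp only [Finset.mem_filter, Finset.mem_univ, true_and] at hη
  obtain ⟨ψ₀, hψ₀, rfl⟩ := D.zeta_onto η hη
  rw [bl3_fibre D ψ₀ hψ₀]
  have h1 : ∀ ψ ∈ Finset.univ.filter (· ∈ {ψ' : ↥(P : Subgroup G) →* ℂˣ | ∃ n : G,
        n ∈ Subgroup.normalizer ((P : Subgroup G) : Set G) ∧
          ∀ w w' : ↥(P : Subgroup G), (w' : G) = n * w * n⁻¹ → ψ' w' = ψ₀ w}),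
      conj ((ψ y : ℂˣ) : ℂ) * F (ζ ψ) = conj ((ψ y : ℂˣ) : ℂ) * F (ζ ψ₀) := by
    intro ψ hψ
    simp only [Finset.mem_filter, Finset.mem_univ, true_and, Set.mem_ofPred_eq] at hψ
    rw [D.zeta_const ψ₀ ψ hψ₀ hψ]
  rw [Finset.sum_congr rfl h1, ← Finset.sum_mul, ← map_sum, ← bl3_finsum_filter]
  have h2 := bl3_orbSum_eq D ψ₀ hψ₀ y hy
  unfold bl3_orbSum at h2
  rw [h2, map_mul, map_intCast]
  ring

end grouping

section ysum1

variable {G : Type u} [Group G] [Finite G] {p : ℕ} [hpF : Fact p.Prime] {M : Ideal Cfsg.AlgInt}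
  {P : Sylow p G} {X Y : Set (Cfsg.IrrCharacter G)} {a : Cfsg.IrrCharacter G → ℤ} {δ : ℤ}
  {ζ : (↥(P : Subgroup G) →* ℂˣ) → Cfsg.IrrCharacter G}

open Classical in
/-- the sum of the non-principal linear characters of `P` at `q ≠ 1` -/
theorem bl3_sum_ne_one (hab : IsMulCommutative P) [Fintype (↥(P : Subgroup G) →* ℂˣ)]
    (f : ↥(P : Subgroup G)) (hf : f ≠ 1) :
    ∑ ψ ∈ Finset.univ.filter (fun ψ : ↥(P : Subgroup G) →* ℂˣ => ψ ≠ 1),
      ((ψ f : ℂˣ) : ℂ) = -1 := by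
  have hcomm : ∀ a b : ↥(P : Subgroup G), a * b = b * a := fun a b => hab.is_comm.comm a b
  rw [Finset.filter_ne', Finset.sum_erase_eq_sub (Finset.mem_univ _),
    sum_hom_units_apply hcomm f, if_neg hf]
  simp

/-- (Y1) the sum of the exceptional characters at a non-identity element of `P` -/
theorem bl3_ysum (D : bl3_Data p M P X Y a δ ζ) (hab : IsMulCommutative P)
    (y : ↥(P : Subgroup G)) (hy : (y : G) ≠ 1) :
    ∑ᶠ η ∈ Y, (starRingEnd ℂ) ((η : G → ℂ) (y : G)) = -(δ : ℂ) := by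
  classical
  haveI : Finite (↥(P : Subgroup G) →* ℂˣ) := finite_hom_units
  haveI : Fintype (↥(P : Subgroup G) →* ℂˣ) := Fintype.ofFinite _
  have hy' : y ≠ 1 := fun h => hy (by rw [h]; rfl)
  have h1 := bl3_group D y hy (fun _ => 1)
  simp only [mul_one] at h1
  rw [← map_sum, bl3_sum_ne_one hab y hy', map_neg, map_one] at h1
  have h2 := bl3_delta_sq D
  calc ∑ᶠ η ∈ Y, (starRingEnd ℂ) ((η : G → ℂ) (y : G))
      = (δ : ℂ) * ((δ : ℂ) * ∑ᶠ η ∈ Y, (starRingEnd ℂ) ((η : G → ℂ) (y : G))) := by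
        rw [← mul_assoc, h2, one_mul]
    _ = -(δ : ℂ) := by rw [← h1]; ring

/-- (Y1), unconjugated -/
theorem bl3_ysum' (D : bl3_Data p M P X Y a δ ζ) (hab : IsMulCommutative P)
    (y : ↥(P : Subgroup G)) (hy : (y : G) ≠ 1) :
    ∑ᶠ η ∈ Y, (η : G → ℂ) (y : G) = -(δ : ℂ) := by
  have h := congrArg (starRingEnd ℂ) (bl3_ysum D hab y hy)
  rw [map_neg, map_intCast] at h
  rw [← h]
  haveI : Finite (Cfsg.IrrCharacter G) := irr_finite
  haveI : Fintype (Cfsg.IrrCharacter G) := Fintype.ofFinite _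
  rw [bl3_finsum_filter, bl3_finsum_filter, map_sum]
  apply Finset.sum_congr rfl
  intro η _
  rw [Complex.conj_conj]

end ysum1

section orb

variable {G : Type u} [Group G] [Finite G] {p : ℕ} [hpF : Fact p.Prime]

open Classical in
/-- the orbit sum as a sum over the normalizer -/
theorem bl3_orbSum_mul_card (P : Sylow p G)
    (hfree : ∀ n ∈ Subgroup.normalizer ((P : Subgroup G) : Set G),
      n ∉ Subgroup.centralizer ((P : Subgroup G) : Set G) →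
      ∀ y ∈ (P : Subgroup G), y ≠ 1 → n * y * n⁻¹ ≠ y)
    [Fintype (↥(P : Subgroup G) →* ℂˣ)]
    [Fintype ↥(Subgroup.normalizer ((P : Subgroup G) : Set G))]
    (ψ : ↥(P : Subgroup G) →* ℂˣ) (hψ : ψ ≠ 1) (w : ↥(P : Subgroup G)) :
    (Nat.card (Subgroup.centralizer ((P : Subgroup G) : Set G)) : ℂ) * bl3_orbSum P ψ w =
      ∑ x : ↥(Subgroup.normalizer ((P : Subgroup G) : Set G)),
        ((ψ (normConjEquiv (P : Subgroup G) x w) : ℂˣ) : ℂ) := by
  letI := dualAction (P : Subgroup G)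
  have h1 : ∑ x : ↥(Subgroup.normalizer ((P : Subgroup G) : Set G)),
      ((ψ (normConjEquiv (P : Subgroup G) x w) : ℂˣ) : ℂ) =
      ∑ ψ' : ↥(P : Subgroup G) →* ℂˣ,
        ∑ x ∈ Finset.univ.filter
          (fun x : ↥(Subgroup.normalizer ((P : Subgroup G) : Set G)) => x • ψ = ψ'),
          (((x • ψ) w : ℂˣ) : ℂ) := by
    exact (Finset.sum_fiberwise Finset.univ
      (fun x : ↥(Subgroup.normalizer ((P : Subgroup G) : Set G)) => x • ψ)
      (fun x => (((x • ψ) w : ℂˣ) : ℂ))).symm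
  have h2 : ∀ ψ' : ↥(P : Subgroup G) →* ℂˣ,
      ∑ x ∈ Finset.univ.filter
          (fun x : ↥(Subgroup.normalizer ((P : Subgroup G) : Set G)) => x • ψ = ψ'),
          (((x • ψ) w : ℂˣ) : ℂ) =
        (if (∃ x : ↥(Subgroup.normalizer ((P : Subgroup G) : Set G)), x • ψ = ψ') then
          (Nat.card (Subgroup.centralizer ((P : Subgroup G) : Set G)) : ℂ) else 0) *
          ((ψ' w : ℂˣ) : ℂ) := by
    intro ψ'
    have h3 : ∀ x ∈ Finset.univ.filter
          (fun x : ↥(Subgroup.normalizer ((P : Subgroup G) : Set G)) => x • ψ = ψ'),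
          (((x • ψ) w : ℂˣ) : ℂ) = ((ψ' w : ℂˣ) : ℂ) := by
      intro x hx
      rw [(Finset.mem_filter.mp hx).2]
    rw [Finset.sum_congr rfl h3, Finset.sum_const, nsmul_eq_mul]
    congr 1
    have h4 := card_smul_eq (P : Subgroup G) hfree ψ ψ' hψ
    rw [Nat.card_eq_fintype_card, Fintype.card_subtype] at h4
    rw [h4]
    split_ifs <;> simp
  rw [h1, Finset.sum_congr rfl (fun ψ' _ => h2 ψ')]
  simp only [ite_mul, zero_mul]
  rw [← Finset.sum_filter, ← Finset.mul_sum]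
  congr 1
  unfold bl3_orbSum
  rw [bl3_finsum_filter]
  apply Finset.sum_congr _ (fun _ _ => rfl)
  ext ψ'
  simp only [Finset.mem_filter, Finset.mem_univ, true_and, Set.mem_ofPred_eq]
  exact rel_iff (P : Subgroup G) ψ ψ'

end orb

section ysum2

variable {G : Type u} [Group G] [Finite G] {p : ℕ} [hpF : Fact p.Prime] {M : Ideal Cfsg.AlgInt}
  {P : Sylow p G} {X Y : Set (Cfsg.IrrCharacter G)} {a : Cfsg.IrrCharacter G → ℤ} {δ : ℤ}
  {ζ : (↥(P : Subgroup G) →* ℂˣ) → Cfsg.IrrCharacter G}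

/-- the product of two `N`-conjugates of the involution `t0` is not `y` -/
theorem bl3_prod_ne (P : Sylow p G)
    (hab : ∀ a ∈ (P : Subgroup G), ∀ b ∈ (P : Subgroup G), a * b = b * a)
    (hCN : (Subgroup.centralizer ((P : Subgroup G) : Set G)).relIndex
      (Subgroup.normalizer ((P : Subgroup G) : Set G)) = 3)
    (hfrob : ∀ y : G, y ∈ (P : Subgroup G) → y ≠ 1 →
      Subgroup.centralizer ({y} : Set G) ⊓ Subgroup.normalizer ((P : Subgroup G) : Set G) =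
        Subgroup.centralizer ((P : Subgroup G) : Set G))
    (t0 y : ↥(P : Subgroup G)) (ht0 : orderOf (t0 : G) = 2) (hy : (y : G) ≠ 1)
    (hyt : ∀ n : G, n ∈ Subgroup.normalizer ((P : Subgroup G) : Set G) →
      n * (t0 : G) * n⁻¹ ≠ (y : G))
    (x x' : ↥(Subgroup.normalizer ((P : Subgroup G) : Set G))) :
    y⁻¹ * normConjEquiv (P : Subgroup G) x t0 * normConjEquiv (P : Subgroup G) x' t0 ≠ 1 := by
  intro h
  have hG := congrArg (Subtype.val : ↥(P : Subgroup G) → G) h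
  simp only [Subgroup.coe_mul, Subgroup.coe_inv, normConjEquiv_apply_coe, Subgroup.coe_one] at hG
  -- `u u' = y`
  have ht2 : (t0 : G) * (t0 : G) = 1 := by
    have := pow_orderOf_eq_one (t0 : G)
    rwa [ht0, pow_two] at this
  obtain ⟨u, hu⟩ : ∃ u : G, u = (x : G)⁻¹ * (t0 : G) * (x : G) := ⟨_, rfl⟩
  obtain ⟨u', hu'⟩ : ∃ u' : G, u' = (x' : G)⁻¹ * (t0 : G) * (x' : G) := ⟨_, rfl⟩
  have huP : u ∈ (P : Subgroup G) := by
    rw [hu]; exact (normConjEquiv (P : Subgroup G) x t0).2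
  have huu : u * u = 1 := by
    rw [hu]
    calc (x : G)⁻¹ * (t0 : G) * (x : G) * ((x : G)⁻¹ * (t0 : G) * (x : G))
        = (x : G)⁻¹ * ((t0 : G) * (t0 : G)) * (x : G) := by group
      _ = 1 := by rw [ht2]; group
  have hy' : u * u' = (y : G) := by
    rw [hu, hu']
    calc (x : G)⁻¹ * (t0 : G) * (x : G) * ((x' : G)⁻¹ * (t0 : G) * (x' : G))
        = (y : G) * ((y : G)⁻¹ * ((x : G)⁻¹ * (t0 : G) * (x : G)) *
            ((x' : G)⁻¹ * (t0 : G) * (x' : G))) := by group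
      _ = (y : G) := by rw [hG, mul_one]
  obtain ⟨g, hg⟩ : ∃ g : G, g = (x : G)⁻¹ * (x' : G) := ⟨_, rfl⟩
  have hgN : g ∈ Subgroup.normalizer ((P : Subgroup G) : Set G) := by
    rw [hg]; exact mul_mem (inv_mem x.2) x'.2
  have hu'g : u' = g⁻¹ * u * g := by
    rw [hu', hu, hg]; group
  by_cases hgC : g ∈ Subgroup.centralizer ((P : Subgroup G) : Set G)
  · have hcomm := Subgroup.mem_centralizer_iff.mp hgC u huP
    have : u' = u := by
      rw [hu'g]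
      calc g⁻¹ * u * g = g⁻¹ * (u * g) := by group
        _ = g⁻¹ * (g * u) := by rw [hcomm]
        _ = u := by group
    rw [this, huu] at hy'
    exact hy hy'.symm
  · have hnN : g⁻¹ ∈ Subgroup.normalizer ((P : Subgroup G) : Set G) := inv_mem hgN
    have hnC : g⁻¹ ∉ Subgroup.centralizer ((P : Subgroup G) : Set G) := fun h' =>
      hgC (by simpa using inv_mem h')
    have hnorm := bl3_key_norm (P : Subgroup G) hab hCN hfrob g⁻¹ hnN hnC u huP
    rw [inv_inv, ← hu'g, hy'] at hnorm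
    -- `v := n² u n⁻²` is an involution with `y v = 1`
    obtain ⟨v, hv⟩ : ∃ v : G, v = g⁻¹ ^ 2 * u * (g⁻¹ ^ 2)⁻¹ := ⟨_, rfl⟩
    rw [← hv] at hnorm
    have hvv : v * v = 1 := by
      rw [hv]
      calc g⁻¹ ^ 2 * u * (g⁻¹ ^ 2)⁻¹ * (g⁻¹ ^ 2 * u * (g⁻¹ ^ 2)⁻¹)
          = g⁻¹ ^ 2 * (u * u) * (g⁻¹ ^ 2)⁻¹ := by group
        _ = 1 := by rw [huu]; group
    have hyv : (y : G) = v := by
      calc (y : G) = (y : G) * (v * v) := by rw [hvv, mul_one]
        _ = ((y : G) * v) * v := by group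
        _ = v := by rw [hnorm, one_mul]
    apply hyt (g⁻¹ ^ 2 * (x : G)⁻¹) (mul_mem (pow_mem hnN 2) (inv_mem x.2))
    rw [hyv, hv, hu]
    group

end ysum2

section ysum2b

variable {G : Type u} [Group G] [Finite G] {p : ℕ} [hpF : Fact p.Prime] {M : Ideal Cfsg.AlgInt}
  {P : Sylow p G} {X Y : Set (Cfsg.IrrCharacter G)} {a : Cfsg.IrrCharacter G → ℤ} {δ : ℤ}
  {ζ : (↥(P : Subgroup G) →* ℂˣ) → Cfsg.IrrCharacter G}

open Classical in
/-- the key double sum: `Σ_{ψ ≠ 1} conj ψ(y) (Σ_x ψ(t0^x))² = - |N|²` -/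
theorem bl3_double_sum (P : Sylow p G) (hab : IsMulCommutative P)
    (hCN : (Subgroup.centralizer ((P : Subgroup G) : Set G)).relIndex
      (Subgroup.normalizer ((P : Subgroup G) : Set G)) = 3)
    (hfrob : ∀ y : G, y ∈ (P : Subgroup G) → y ≠ 1 →
      Subgroup.centralizer ({y} : Set G) ⊓ Subgroup.normalizer ((P : Subgroup G) : Set G) =
        Subgroup.centralizer ((P : Subgroup G) : Set G))
    [Fintype (↥(P : Subgroup G) →* ℂˣ)]
    [Fintype ↥(Subgroup.normalizer ((P : Subgroup G) : Set G))]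
    (t0 y : ↥(P : Subgroup G)) (ht0 : orderOf (t0 : G) = 2) (hy : (y : G) ≠ 1)
    (hyt : ∀ n : G, n ∈ Subgroup.normalizer ((P : Subgroup G) : Set G) →
      n * (t0 : G) * n⁻¹ ≠ (y : G)) :
    ∑ ψ ∈ Finset.univ.filter (fun ψ : ↥(P : Subgroup G) →* ℂˣ => ψ ≠ 1),
      conj ((ψ y : ℂˣ) : ℂ) *
        (∑ x : ↥(Subgroup.normalizer ((P : Subgroup G) : Set G)),
          ((ψ (normConjEquiv (P : Subgroup G) x t0) : ℂˣ) : ℂ)) ^ 2 =
      -((Fintype.card ↥(Subgroup.normalizer ((P : Subgroup G) : Set G)) : ℂ)) ^ 2 := by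
  have hab' : ∀ a ∈ (P : Subgroup G), ∀ b ∈ (P : Subgroup G), a * b = b * a :=
    fun a ha b hb => congrArg Subtype.val (hab.is_comm.comm ⟨a, ha⟩ ⟨b, hb⟩)
  have h1 : ∀ ψ : ↥(P : Subgroup G) →* ℂˣ,
      conj ((ψ y : ℂˣ) : ℂ) *
        (∑ x : ↥(Subgroup.normalizer ((P : Subgroup G) : Set G)),
          ((ψ (normConjEquiv (P : Subgroup G) x t0) : ℂˣ) : ℂ)) ^ 2 =
      ∑ x : ↥(Subgroup.normalizer ((P : Subgroup G) : Set G)),
        ∑ x' : ↥(Subgroup.normalizer ((P : Subgroup G) : Set G)),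
          ((ψ (y⁻¹ * normConjEquiv (P : Subgroup G) x t0 *
            normConjEquiv (P : Subgroup G) x' t0) : ℂˣ) : ℂ) := by
    intro ψ
    rw [pow_two, Finset.sum_mul_sum, Finset.mul_sum]
    apply Finset.sum_congr rfl
    intro x _
    rw [Finset.mul_sum]
    apply Finset.sum_congr rfl
    intro x' _
    rw [map_mul, map_mul, Units.val_mul, Units.val_mul, hom_inv_eq_conj]
    ring
  rw [Finset.sum_congr rfl (fun ψ _ => h1 ψ), Finset.sum_comm]
  have h2 : ∀ x : ↥(Subgroup.normalizer ((P : Subgroup G) : Set G)),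
      ∑ ψ ∈ Finset.univ.filter (fun ψ : ↥(P : Subgroup G) →* ℂˣ => ψ ≠ 1),
        ∑ x' : ↥(Subgroup.normalizer ((P : Subgroup G) : Set G)),
          ((ψ (y⁻¹ * normConjEquiv (P : Subgroup G) x t0 *
            normConjEquiv (P : Subgroup G) x' t0) : ℂˣ) : ℂ) =
      -(Fintype.card ↥(Subgroup.normalizer ((P : Subgroup G) : Set G)) : ℂ) := by
    intro x
    rw [Finset.sum_comm]
    have h3 : ∀ x' : ↥(Subgroup.normalizer ((P : Subgroup G) : Set G)),
        ∑ ψ ∈ Finset.univ.filter (fun ψ : ↥(P : Subgroup G) →* ℂˣ => ψ ≠ 1),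
          ((ψ (y⁻¹ * normConjEquiv (P : Subgroup G) x t0 *
            normConjEquiv (P : Subgroup G) x' t0) : ℂˣ) : ℂ) = -1 := fun x' =>
      bl3_sum_ne_one hab _ (bl3_prod_ne P hab' hCN hfrob t0 y ht0 hy hyt x x')
    rw [Finset.sum_congr rfl (fun x' _ => h3 x')]
    simp
  rw [Finset.sum_congr rfl (fun x _ => h2 x)]
  simp only [Finset.sum_const, Finset.card_univ, nsmul_eq_mul]
  ring

/-- (Y2) the `Y`-part of the class multiplication identity at an involution `t0 ∈ P` -/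
theorem bl3_ysum_two (D : bl3_Data p M P X Y a δ ζ) (hab : IsMulCommutative P) (hp : p = 2)
    (hfrob : ∀ y : G, y ∈ (P : Subgroup G) → y ≠ 1 →
      Subgroup.centralizer ({y} : Set G) ⊓ Subgroup.normalizer ((P : Subgroup G) : Set G) =
        Subgroup.centralizer ((P : Subgroup G) : Set G))
    (hCN : (Subgroup.centralizer ((P : Subgroup G) : Set G)).relIndex
      (Subgroup.normalizer ((P : Subgroup G) : Set G)) = 3)
    (t0 y : ↥(P : Subgroup G)) (ht0 : orderOf (t0 : G) = 2) (hy : (y : G) ≠ 1)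
    (hyt : ∀ n : G, n ∈ Subgroup.normalizer ((P : Subgroup G) : Set G) →
      n * (t0 : G) * n⁻¹ ≠ (y : G)) :
    ∑ᶠ η ∈ Y, (starRingEnd ℂ) ((η : G → ℂ) (y : G)) * ((η : G → ℂ) (t0 : G)) ^ 2 =
      -9 * (δ : ℂ) := by
  classical
  haveI : Finite (↥(P : Subgroup G) →* ℂˣ) := finite_hom_units
  haveI : Fintype (↥(P : Subgroup G) →* ℂˣ) := Fintype.ofFinite _
  haveI : Fintype ↥(Subgroup.normalizer ((P : Subgroup G) : Set G)) := Fintype.ofFinite _
  have hfree := free_of_frob (P : Subgroup G) hfrob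
  have ht01 : (t0 : G) ≠ 1 := by
    intro h
    rw [h, orderOf_one] at ht0
    omega
  have hc0 : (Nat.card (Subgroup.centralizer ((P : Subgroup G) : Set G)) : ℂ) ≠ 0 := by
    exact_mod_cast (Nat.card_pos (α := ↥(Subgroup.centralizer ((P : Subgroup G) : Set G)))).ne'
  have hN : (Fintype.card ↥(Subgroup.normalizer ((P : Subgroup G) : Set G)) : ℂ) =
      (Nat.card (Subgroup.centralizer ((P : Subgroup G) : Set G)) : ℂ) * 3 := by
    rw [← Nat.card_eq_fintype_card, card_normalizer_eq (P : Subgroup G), hCN]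
    push_cast; ring
  have h1 := bl3_group D y hy (fun η => ((η : G → ℂ) (t0 : G)) ^ 2)
  have h2 : ∀ ψ ∈ Finset.univ.filter (fun ψ : ↥(P : Subgroup G) →* ℂˣ => ψ ≠ 1),
      conj ((ψ y : ℂˣ) : ℂ) * ((ζ ψ : G → ℂ) (t0 : G)) ^ 2 =
      ((Nat.card (Subgroup.centralizer ((P : Subgroup G) : Set G)) : ℂ) ^ 2)⁻¹ *
        (conj ((ψ y : ℂˣ) : ℂ) *
          (∑ x : ↥(Subgroup.normalizer ((P : Subgroup G) : Set G)),
            ((ψ (normConjEquiv (P : Subgroup G) x t0) : ℂˣ) : ℂ)) ^ 2) := by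
    intro ψ hψ
    have hψ1 : ψ ≠ 1 := (Finset.mem_filter.mp hψ).2
    rw [← bl3_orbSum_mul_card P hfree ψ hψ1 t0, bl3_val_Y_P D ψ hψ1 t0 ht01]
    have hd := bl3_delta_sq D
    have e1 : ((δ : ℂ) * bl3_orbSum P ψ t0) ^ 2 = bl3_orbSum P ψ t0 ^ 2 := by
      rw [mul_pow, pow_two (δ : ℂ), hd, one_mul]
    rw [e1, mul_pow]
    field_simp
  rw [Finset.sum_congr rfl h2, ← Finset.mul_sum,
    bl3_double_sum P hab hCN hfrob t0 y ht0 hy hyt, hN] at h1
  have h3 : (δ : ℂ) * ∑ᶠ η ∈ Y, (starRingEnd ℂ) ((η : G → ℂ) (y : G)) *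
      ((η : G → ℂ) (t0 : G)) ^ 2 = -9 := by
    rw [← h1]
    field_simp
    norm_num
  have hd := bl3_delta_sq D
  calc ∑ᶠ η ∈ Y, (starRingEnd ℂ) ((η : G → ℂ) (y : G)) * ((η : G → ℂ) (t0 : G)) ^ 2
      = (δ : ℂ) * ((δ : ℂ) * ∑ᶠ η ∈ Y, (starRingEnd ℂ) ((η : G → ℂ) (y : G)) *
          ((η : G → ℂ) (t0 : G)) ^ 2) := by rw [← mul_assoc, hd, one_mul]
    _ = -9 * (δ : ℂ) := by rw [h3]; ring

end ysum2b

end Cfsg.Agent.BL3
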