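import Mathlib
import Cfsg.Agent.BL3.Alg
import Cfsg.Agent.BL3.Inv
import Cfsg.Agent.BL3.Key
import Cfsg.Agent.BL3.Data
import Cfsg.Agent.BL3.YSum
import Cfsg.Agent.BL3.Ker

/-!
# S4721: the final assembly

`bl3_final`: with the block data `bl3_Data` (three characters `X = {1, χ₂, χ₃}` of constant value
`a χ` on the non-trivial `p`-sections, the exceptional family `Y`), an involution `t` lying in no
proper normal subgroup forces exactly two of `a χ₂, a χ₃, -δ` to be `-1` and the product of the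
three degrees to be a square.

Ingredients: the identity `(Q)` (`bl3_invol`) at an element `y` of `P` not conjugate to `t`
(`bl3_exists_y`, `bl3_key`), the relation `rel` of the data at `1` and at `t`, the sums over `Y`
(`bl3_ysum`, `bl3_ysum_two`) and the arithmetic `bl3_alg`, `bl3_alg_count`.
-/

set_option autoImplicit false
set_option linter.style.haveILetI false

namespace Cfsg.Agent.BL3

open Cfsg Cfsg.Agent.Helper6
open scoped ComplexConjugate Pointwise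

universe u

/-- a finite sum over `{x₁, x₂, x₃}` -/
theorem bl3_fin_split3 {α : Type*} (X : Set α) (x₁ x₂ x₃ : α)
    (h21 : x₂ ≠ x₁) (h31 : x₃ ≠ x₁) (h23 : x₂ ≠ x₃) (hX : X = {x₁, x₂, x₃}) (F : α → ℂ) :
    ∑ᶠ x ∈ X, F x = F x₁ + F x₂ + F x₃ := by
  subst hX
  rw [finsum_mem_insert F _ (Set.toFinite _), finsum_mem_pair h23]
  · ring
  · simp only [Set.mem_insert_iff, Set.mem_singleton_iff, not_or]
    exact ⟨h21.symm, h31.symm⟩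

/-- a finite sum over `{x₁, x₂, x₃} ∪ Y` -/
theorem bl3_fin_split {α : Type*} [Finite α] (X Y : Set α) (hd : Disjoint X Y) (x₁ x₂ x₃ : α)
    (h21 : x₂ ≠ x₁) (h31 : x₃ ≠ x₁) (h23 : x₂ ≠ x₃) (hX : X = {x₁, x₂, x₃}) (F : α → ℂ) :
    ∑ᶠ x ∈ X ∪ Y, F x = F x₁ + F x₂ + F x₃ + ∑ᶠ x ∈ Y, F x := by
  rw [finsum_mem_union hd (Set.toFinite _) (Set.toFinite _),
    bl3_fin_split3 X x₁ x₂ x₃ h21 h31 h23 hX F]

/-- the cardinality of a subtype described by a set -/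
theorem bl3_fin_card {α : Type*} (q : α → Prop) (s : Set α) (h : ∀ x, q x ↔ x ∈ s) :
    Nat.card {x // q x} = s.ncard := by
  rw [← Nat.card_coe_set_eq]
  exact Nat.card_congr (Equiv.subtypeEquivRight h)

/-- an element of order `p` is conjugate into a given Sylow `p`-subgroup -/
theorem bl3_fin_conj_mem {G : Type u} [Group G] [Finite G] {p : ℕ} [Fact p.Prime] (P : Sylow p G)
    (t : G) (ht : orderOf t = p) : ∃ g : G, g * t * g⁻¹ ∈ (P : Subgroup G) := by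
  have hpg : IsPGroup p (Subgroup.zpowers t) :=
    bl3_key_zpowers t 1 (by rw [pow_one, ← ht]; exact pow_orderOf_eq_one t)
  obtain ⟨Q, hQ⟩ := hpg.exists_le_sylow
  obtain ⟨g, hg⟩ := MulAction.exists_smul_eq G Q P
  refine ⟨g, ?_⟩
  have htQ : t ∈ (Q : Subgroup G) := hQ (Subgroup.mem_zpowers t)
  have h1 : MulAut.conj g • t ∈ MulAut.conj g • (Q : Subgroup G) :=
    Subgroup.smul_mem_pointwise_smul_iff.mpr htQ
  rw [← Sylow.coe_subgroup_smul, hg] at h1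
  simpa [MulAut.smul_def] using h1

/-- the order of a conjugate -/
theorem bl3_fin_orderOf_conj {G : Type u} [Group G] (g t : G) :
    orderOf (g * t * g⁻¹) = orderOf t := by
  have := (MulAut.conj g).orderOf_eq t
  simpa [MulAut.conj_apply] using this

/-- the `Y`-part of `(Q)` together with the values at `t`: there are integers `v₂ v₃ v₄` with
`χ₂ t = v₂`, `χ₃ t = v₃`, the second relation and the `Y`-sum expressed by `v₄`. -/
theorem bl3_fin_values {G : Type u} [Group G] [Finite G] (p : ℕ) [Fact p.Prime]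
    (M : Ideal Cfsg.AlgInt) (P : Sylow p G) (hab : IsMulCommutative P)
    (hCN : (Subgroup.centralizer ((P : Subgroup G) : Set G)).relIndex
      (Subgroup.normalizer ((P : Subgroup G) : Set G)) = 3)
    (hfrob : ∀ y : G, y ∈ (P : Subgroup G) → y ≠ 1 →
      Subgroup.centralizer ({y} : Set G) ⊓ Subgroup.normalizer ((P : Subgroup G) : Set G) =
        Subgroup.centralizer ((P : Subgroup G) : Set G))
    {X Y : Set (Cfsg.IrrCharacter G)} {a : Cfsg.IrrCharacter G → ℤ} {δ : ℤ}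
    {ζ : (↥(P : Subgroup G) →* ℂˣ) → Cfsg.IrrCharacter G}
    (D : bl3_Data p M P X Y a δ ζ) (t : G) (ht : orderOf t = 2)
    (y : G) (hyP : y ∈ (P : Subgroup G)) (hy1 : y ≠ 1) (hyt : ∀ g : G, g * y * g⁻¹ ≠ t)
    (χ₁ χ₂ χ₃ η₀ : Cfsg.IrrCharacter G) (hχ₁ : (χ₁ : G → ℂ) = fun _ => 1) (ha1 : a χ₁ = 1)
    (h21 : χ₂ ≠ χ₁) (h31 : χ₃ ≠ χ₁) (h23 : χ₂ ≠ χ₃) (hX : X = {χ₁, χ₂, χ₃}) (hη₀ : η₀ ∈ Y) :
    ∃ v₂ v₃ v₄ : ℤ, (χ₂ : G → ℂ) t = (v₂ : ℂ) ∧ (χ₃ : G → ℂ) t = (v₃ : ℂ) ∧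
      1 + a χ₂ * v₂ + a χ₃ * v₃ + (-δ) * v₄ = 0 ∧
      ∑ᶠ η ∈ Y, conj ((η : G → ℂ) y) * (η : G → ℂ) t ^ 2 / (η : G → ℂ) 1 =
        (((-δ) * v₄ ^ 2 : ℤ) : ℂ) / (η₀ : G → ℂ) 1 := by
  classical
  haveI : Finite (Cfsg.IrrCharacter G) := irr_finite
  have hpp : p.Prime := Fact.out
  have hχ₁X : χ₁ ∈ X := by rw [hX]; simp
  have hχ₂X : χ₂ ∈ X := by rw [hX]; simp
  have hχ₃X : χ₃ ∈ X := by rw [hX]; simp
  have hχ₁v : ∀ g : G, (χ₁ : G → ℂ) g = 1 := fun g => by rw [hχ₁]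
  have h1reg : ¬ p ∣ orderOf (1 : G) := by
    rw [orderOf_one]
    exact hpp.one_lt.ne' ∘ Nat.dvd_one.mp
  have hdeg : ∀ η ∈ Y, (η : G → ℂ) 1 = (η₀ : G → ℂ) 1 := fun η hη =>
    D.reg_Y η hη η₀ hη₀ 1 h1reg
  have hXsum : ∀ g : G, ∑ᶠ χ ∈ X, (a χ : ℂ) * (χ : G → ℂ) g =
      (a χ₁ : ℂ) * (χ₁ : G → ℂ) g + (a χ₂ : ℂ) * (χ₂ : G → ℂ) g + (a χ₃ : ℂ) * (χ₃ : G → ℂ) g :=
    fun g => bl3_fin_split3 X χ₁ χ₂ χ₃ h21 h31 h23 hX (fun χ => (a χ : ℂ) * (χ : G → ℂ) g)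
  have hδ2 : δ * δ = 1 := by rcases D.delta with h | h <;> rw [h] <;> norm_num
  by_cases hreg : p ∣ orderOf t
  · -- `p = 2`, `t` is conjugate to an element `t₀` of `P`
    rw [ht] at hreg
    have hp2 : p = 2 := (Nat.prime_dvd_prime_iff_eq hpp Nat.prime_two).mp hreg
    obtain ⟨g, hg⟩ := bl3_fin_conj_mem P t (by rw [ht, hp2])
    have hord : orderOf (g * t * g⁻¹) = 2 := by rw [bl3_fin_orderOf_conj, ht]
    have ht₀1 : g * t * g⁻¹ ≠ 1 := by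
      intro h
      rw [h, orderOf_one] at hord
      omega
    have hpp₀ : Cfsg.IsPPart p (g * t * g⁻¹) (g * t * g⁻¹) :=
      isPPart_self _ 1 (by rw [hord, hp2, pow_one])
    have hcl : ∀ χ : Cfsg.IrrCharacter G, (χ : G → ℂ) (g * t * g⁻¹) = (χ : G → ℂ) t := fun χ =>
      IsCharacter.isClassFunction (IsIrrCharacter.isCharacter χ.2) t g
    have hv2 : (χ₂ : G → ℂ) t = (a χ₂ : ℂ) := by
      rw [← hcl χ₂]
      exact (D.val_X χ₂ hχ₂X).2 _ _ hpp₀ hg ht₀1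
    have hv3 : (χ₃ : G → ℂ) t = (a χ₃ : ℂ) := by
      rw [← hcl χ₃]
      exact (D.val_X χ₃ hχ₃X).2 _ _ hpp₀ hg ht₀1
    have ha2 : a χ₂ * a χ₂ = 1 := by
      rcases (D.val_X χ₂ hχ₂X).1 with h | h <;> rw [h] <;> norm_num
    have ha3 : a χ₃ * a χ₃ = 1 := by
      rcases (D.val_X χ₃ hχ₃X).1 with h | h <;> rw [h] <;> norm_num
    refine ⟨a χ₂, a χ₃, 3 * δ, hv2, hv3, ?_, ?_⟩
    · have : -δ * (3 * δ) = -3 := by linear_combination (-3 : ℤ) * hδ2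
      linear_combination ha2 + ha3 + this
    · have hyt' : ∀ n : G, n ∈ Subgroup.normalizer ((P : Subgroup G) : Set G) →
          n * ((⟨g * t * g⁻¹, hg⟩ : ↥(P : Subgroup G)) : G) * n⁻¹ ≠
            ((⟨y, hyP⟩ : ↥(P : Subgroup G)) : G) := by
        intro n _ hn
        apply hyt (n * g)⁻¹
        rw [inv_inv]
        show (n * g)⁻¹ * y * (n * g) = t
        rw [← show n * (g * t * g⁻¹) * n⁻¹ = y from hn]
        group
      have hsum := bl3_ysum_two D hab hp2 hfrob hCN ⟨g * t * g⁻¹, hg⟩ ⟨y, hyP⟩ hord hy1 hyt'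
      have hcongr : ∑ᶠ η ∈ Y, conj ((η : G → ℂ) y) * (η : G → ℂ) t ^ 2 / (η : G → ℂ) 1 =
          ∑ᶠ η ∈ Y, (conj ((η : G → ℂ) y) * (η : G → ℂ) (g * t * g⁻¹) ^ 2) *
            ((η₀ : G → ℂ) 1)⁻¹ := by
        apply finsum_mem_congr rfl
        intro η hη
        rw [hcl η, hdeg η hη, div_eq_mul_inv]
      rw [hcongr, ← finsum_mem_mul]
      have hsum' : ∑ᶠ η ∈ Y, conj ((η : G → ℂ) y) * (η : G → ℂ) (g * t * g⁻¹) ^ 2 =
          -9 * (δ : ℂ) := hsum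
      rw [hsum', div_eq_mul_inv]
      congr 1
      have : (-δ) * (3 * δ) ^ 2 = -9 * δ := by linear_combination (-9 * δ) * hδ2
      rw [this]
      push_cast
      ring
  · -- `t` is `p`-regular
    obtain ⟨v₂, hv₂⟩ := bl3_int (IsIrrCharacter.isCharacter χ₂.2) t ht
    obtain ⟨v₃, hv₃⟩ := bl3_int (IsIrrCharacter.isCharacter χ₃.2) t ht
    obtain ⟨v₄, hv₄⟩ := bl3_int (IsIrrCharacter.isCharacter η₀.2) t ht
    refine ⟨v₂, v₃, v₄, hv₂, hv₃, ?_, ?_⟩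
    · have h := D.rel η₀ hη₀ t hreg
      rw [hXsum, hv₂, hv₃, hv₄, ha1, hχ₁v] at h
      have h' : ((1 + a χ₂ * v₂ + a χ₃ * v₃ + (-δ) * v₄ : ℤ) : ℂ) = 0 := by
        push_cast
        linear_combination h
      exact_mod_cast h'
    · have hsum := bl3_ysum D hab ⟨y, hyP⟩ hy1
      have hsum' : ∑ᶠ η ∈ Y, conj ((η : G → ℂ) y) = -(δ : ℂ) := hsum
      have hcongr : ∑ᶠ η ∈ Y, conj ((η : G → ℂ) y) * (η : G → ℂ) t ^ 2 / (η : G → ℂ) 1 =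
          ∑ᶠ η ∈ Y, conj ((η : G → ℂ) y) * ((v₄ : ℂ) ^ 2 * ((η₀ : G → ℂ) 1)⁻¹) := by
        apply finsum_mem_congr rfl
        intro η hη
        rw [D.reg_Y η hη η₀ hη₀ t hreg, hv₄, hdeg η hη, div_eq_mul_inv, mul_assoc]
      rw [hcongr, ← finsum_mem_mul, hsum', div_eq_mul_inv]
      push_cast
      ring

/-- the sign and square statements for the three named characters -/
theorem bl3_fin_main {G : Type u} [Group G] [Finite G] (p : ℕ) [Fact p.Prime]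
    (M : Ideal Cfsg.AlgInt) (hM : Cfsg.IsPModular p M) (P : Sylow p G) (hab : IsMulCommutative P)
    (hCN : (Subgroup.centralizer ((P : Subgroup G) : Set G)).relIndex
      (Subgroup.normalizer ((P : Subgroup G) : Set G)) = 3)
    (hm2 : 3 + 1 < Nat.card P)
    (hfrob : ∀ y : G, y ∈ (P : Subgroup G) → y ≠ 1 →
      Subgroup.centralizer ({y} : Set G) ⊓ Subgroup.normalizer ((P : Subgroup G) : Set G) =
        Subgroup.centralizer ((P : Subgroup G) : Set G))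
    {X Y : Set (Cfsg.IrrCharacter G)} {a : Cfsg.IrrCharacter G → ℤ} {δ : ℤ}
    {ζ : (↥(P : Subgroup G) →* ℂˣ) → Cfsg.IrrCharacter G}
    (D : bl3_Data p M P X Y a δ ζ) (t : G) (ht : orderOf t = 2)
    (htK : ∀ K : Subgroup G, K.Normal → t ∈ K → K = ⊤)
    (χ₁ χ₂ χ₃ η₀ : Cfsg.IrrCharacter G) (hχ₁ : (χ₁ : G → ℂ) = fun _ => 1)
    (h21 : χ₂ ≠ χ₁) (h31 : χ₃ ≠ χ₁) (h23 : χ₂ ≠ χ₃) (hX : X = {χ₁, χ₂, χ₃}) (hη₀ : η₀ ∈ Y) :
    a χ₂ * a χ₃ * (-δ) = 1 ∧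
    IsSquare ((Cfsg.charDegree (χ₂ : G → ℂ) : ℤ) * (Cfsg.charDegree (χ₃ : G → ℂ) : ℤ) *
      (Cfsg.charDegree (η₀ : G → ℂ) : ℤ)) ∧
    1 + a χ₂ * (Cfsg.charDegree (χ₂ : G → ℂ) : ℤ) + a χ₃ * (Cfsg.charDegree (χ₃ : G → ℂ) : ℤ) +
      (-δ) * (Cfsg.charDegree (η₀ : G → ℂ) : ℤ) = 0 := by
  classical
  haveI : Finite (Cfsg.IrrCharacter G) := irr_finite
  have hpp : p.Prime := Fact.out
  have hχ₁X : χ₁ ∈ X := by rw [hX]; simp
  have hχ₂X : χ₂ ∈ X := by rw [hX]; simp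
  have hχ₃X : χ₃ ∈ X := by rw [hX]; simp
  have hχ₁v : ∀ g : G, (χ₁ : G → ℂ) g = 1 := fun g => by rw [hχ₁]
  -- the element `y`
  obtain ⟨y, hyP, hy1, hyt⟩ := bl3_exists_y p P hab hCN hfrob hm2 t ht
  obtain ⟨k, hk⟩ : ∃ k, orderOf y = p ^ k := by
    have h := IsPGroup.iff_orderOf.mp P.isPGroup' ⟨y, hyP⟩
    rwa [Subgroup.orderOf_mk] at h
  have hppy : Cfsg.IsPPart p y y := isPPart_self y k hk
  have hvy : ∀ χ ∈ X, (χ : G → ℂ) y = (a χ : ℂ) := fun χ hχ =>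
    (D.val_X χ hχ).2 y y hppy hyP hy1
  have ha1 : a χ₁ = 1 := by
    have h := hvy χ₁ hχ₁X
    rw [hχ₁v] at h
    exact_mod_cast h.symm
  -- degrees
  have hF : ∀ χ : Cfsg.IrrCharacter G,
      (χ : G → ℂ) 1 = ((Cfsg.charDegree (χ : G → ℂ) : ℤ) : ℂ) := fun χ => by
    rw [Int.cast_natCast]
    exact (charDegree_cast_of_isCharacter (IsIrrCharacter.isCharacter χ.2)).symm
  have hFpos : ∀ χ : Cfsg.IrrCharacter G, (0 : ℤ) < (Cfsg.charDegree (χ : G → ℂ) : ℤ) := by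
    intro χ
    have h0 : Cfsg.charDegree (χ : G → ℂ) ≠ 0 := by
      intro h0
      have h1 := hF χ
      rw [h0] at h1
      apply IsIrrCharacter.apply_one_ne_zero χ.2
      rw [h1]
      simp
    exact_mod_cast Nat.pos_of_ne_zero h0
  have h1reg : ¬ p ∣ orderOf (1 : G) := by
    rw [orderOf_one]
    exact hpp.one_lt.ne' ∘ Nat.dvd_one.mp
  have hXsum : ∀ g : G, ∑ᶠ χ ∈ X, (a χ : ℂ) * (χ : G → ℂ) g =
      (a χ₁ : ℂ) * (χ₁ : G → ℂ) g + (a χ₂ : ℂ) * (χ₂ : G → ℂ) g + (a χ₃ : ℂ) * (χ₃ : G → ℂ) g :=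
    fun g => bl3_fin_split3 X χ₁ χ₂ χ₃ h21 h31 h23 hX (fun χ => (a χ : ℂ) * (χ : G → ℂ) g)
  -- the first relation
  have hL1 : 1 + a χ₂ * (Cfsg.charDegree (χ₂ : G → ℂ) : ℤ) +
      a χ₃ * (Cfsg.charDegree (χ₃ : G → ℂ) : ℤ) +
      (-δ) * (Cfsg.charDegree (η₀ : G → ℂ) : ℤ) = 0 := by
    have h := D.rel η₀ hη₀ 1 h1reg
    rw [hXsum, hF χ₂, hF χ₃, hF η₀, ha1, hχ₁v] at h
    have h' : ((1 + a χ₂ * (Cfsg.charDegree (χ₂ : G → ℂ) : ℤ) +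
        a χ₃ * (Cfsg.charDegree (χ₃ : G → ℂ) : ℤ) +
        (-δ) * (Cfsg.charDegree (η₀ : G → ℂ) : ℤ) : ℤ) : ℂ) = 0 := by
      push_cast
      linear_combination h
    exact_mod_cast h'
  -- the values at `t` and the `Y`-sum
  obtain ⟨v₂, v₃, v₄, hv₂, hv₃, hL2, hYsum⟩ := bl3_fin_values p M P hab hCN hfrob D t ht y hyP hy1
    hyt χ₁ χ₂ χ₃ η₀ hχ₁ ha1 h21 h31 h23 hX hη₀
  -- the identity `(Q)`
  have hkey : ∀ g z x x' : G, IsConj t x → IsConj t x' → g = x * x' → Cfsg.IsPPart p g z →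
      ∀ h : G, h * z * h⁻¹ ≠ y := by
    intro g z x x' hx hx' hg hpz h hh
    exact bl3_key p P hab hCN hfrob t ht y hyP hy1 hyt g z hpz ⟨h, hh⟩ x x'
      (isConj_iff.mp hx) (isConj_iff.mp hx') hg
  have hQ0 := bl3_invol hM (P : Subgroup G) P.isPGroup' t ht y hyP hkey
  rw [D.union] at hQ0
  have hQ1 : ∑ᶠ χ ∈ X ∪ Y, conj ((χ : G → ℂ) y) * (χ : G → ℂ) t ^ 2 / (χ : G → ℂ) 1 =
      conj ((χ₁ : G → ℂ) y) * (χ₁ : G → ℂ) t ^ 2 / (χ₁ : G → ℂ) 1 +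
      conj ((χ₂ : G → ℂ) y) * (χ₂ : G → ℂ) t ^ 2 / (χ₂ : G → ℂ) 1 +
      conj ((χ₃ : G → ℂ) y) * (χ₃ : G → ℂ) t ^ 2 / (χ₃ : G → ℂ) 1 +
      ∑ᶠ η ∈ Y, conj ((η : G → ℂ) y) * (η : G → ℂ) t ^ 2 / (η : G → ℂ) 1 :=
    bl3_fin_split X Y D.disj χ₁ χ₂ χ₃ h21 h31 h23 hX
      (fun χ => conj ((χ : G → ℂ) y) * (χ : G → ℂ) t ^ 2 / (χ : G → ℂ) 1)
  rw [hQ1, hYsum, hvy χ₂ hχ₂X, hvy χ₃ hχ₃X, hv₂, hv₃, hF χ₂, hF χ₃, hF η₀] at hQ0
  simp only [hχ₁v, map_one, one_pow, mul_one, div_one, map_intCast] at hQ0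
  have hf2 : (Cfsg.charDegree (χ₂ : G → ℂ) : ℂ) ≠ 0 := by
    exact_mod_cast (hFpos χ₂).ne'
  have hf3 : (Cfsg.charDegree (χ₃ : G → ℂ) : ℂ) ≠ 0 := by
    exact_mod_cast (hFpos χ₃).ne'
  have hf4 : (Cfsg.charDegree (η₀ : G → ℂ) : ℂ) ≠ 0 := by
    exact_mod_cast (hFpos η₀).ne'
  have hQ : (Cfsg.charDegree (χ₂ : G → ℂ) : ℤ) * (Cfsg.charDegree (χ₃ : G → ℂ) : ℤ) *
      (Cfsg.charDegree (η₀ : G → ℂ) : ℤ) +
      a χ₂ * v₂ ^ 2 * ((Cfsg.charDegree (χ₃ : G → ℂ) : ℤ) * (Cfsg.charDegree (η₀ : G → ℂ) : ℤ)) +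
      a χ₃ * v₃ ^ 2 * ((Cfsg.charDegree (χ₂ : G → ℂ) : ℤ) * (Cfsg.charDegree (η₀ : G → ℂ) : ℤ)) +
      (-δ) * v₄ ^ 2 * ((Cfsg.charDegree (χ₂ : G → ℂ) : ℤ) * (Cfsg.charDegree (χ₃ : G → ℂ) : ℤ))
      = 0 := by
    have h' : (((Cfsg.charDegree (χ₂ : G → ℂ) : ℤ) * (Cfsg.charDegree (χ₃ : G → ℂ) : ℤ) *
      (Cfsg.charDegree (η₀ : G → ℂ) : ℤ) +
      a χ₂ * v₂ ^ 2 * ((Cfsg.charDegree (χ₃ : G → ℂ) : ℤ) * (Cfsg.charDegree (η₀ : G → ℂ) : ℤ)) +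
      a χ₃ * v₃ ^ 2 * ((Cfsg.charDegree (χ₂ : G → ℂ) : ℤ) * (Cfsg.charDegree (η₀ : G → ℂ) : ℤ)) +
      (-δ) * v₄ ^ 2 * ((Cfsg.charDegree (χ₂ : G → ℂ) : ℤ) * (Cfsg.charDegree (χ₃ : G → ℂ) : ℤ))
      : ℤ) : ℂ) = 0 := by
      push_cast
      push_cast at hQ0
      field_simp at hQ0
      linear_combination hQ0
    exact_mod_cast h'
  -- `χ₂` is not the principal character
  have hχ₂ne : (χ₂ : G → ℂ) ≠ fun _ => 1 := by
    intro h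
    exact h21 (Subtype.ext (h.trans hχ₁.symm))
  have hNK : v₂ ≠ (Cfsg.charDegree (χ₂ : G → ℂ) : ℤ) ∨ v₃ ≠ (Cfsg.charDegree (χ₃ : G → ℂ) : ℤ) := by
    left
    intro h
    apply bl3_ker χ₂ hχ₂ne t htK
    rw [hv₂, hF χ₂, h]
  have he4 : -δ = 1 ∨ -δ = -1 := by
    rcases D.delta with h | h
    · right; rw [h]
    · left; rw [h]; norm_num
  obtain ⟨hprod, hsq⟩ := bl3_alg (a χ₂) (a χ₃) (-δ) _ _ _ v₂ v₃ v₄ (D.val_X χ₂ hχ₂X).1
    (D.val_X χ₃ hχ₃X).1 he4 (hFpos χ₂) (hFpos χ₃) (hFpos η₀) hL1 hL2 hQ hNK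
  exact ⟨hprod, hsq, hL1⟩

/-- **S4721, part 2**: the sign count and the square. -/
theorem bl3_final {G : Type u} [Group G] [Finite G] (p : ℕ) [Fact p.Prime]
    (M : Ideal Cfsg.AlgInt) (hM : Cfsg.IsPModular p M) (P : Sylow p G) (hab : IsMulCommutative P)
    (hCN : (Subgroup.centralizer ((P : Subgroup G) : Set G)).relIndex
      (Subgroup.normalizer ((P : Subgroup G) : Set G)) = 3)
    (hm2 : 3 + 1 < Nat.card P)
    (hfrob : ∀ y : G, y ∈ (P : Subgroup G) → y ≠ 1 →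
      Subgroup.centralizer ({y} : Set G) ⊓ Subgroup.normalizer ((P : Subgroup G) : Set G) =
        Subgroup.centralizer ((P : Subgroup G) : Set G))
    {X Y : Set (Cfsg.IrrCharacter G)} {a : Cfsg.IrrCharacter G → ℤ} {δ : ℤ}
    {ζ : (↥(P : Subgroup G) →* ℂˣ) → Cfsg.IrrCharacter G}
    (D : bl3_Data p M P X Y a δ ζ) (t : G) (ht : orderOf t = 2)
    (htK : ∀ K : Subgroup G, K.Normal → t ∈ K → K = ⊤) :
    Nat.card {χ : Cfsg.IrrCharacter G // χ ∈ X ∧ (χ : G → ℂ) ≠ (fun _ => 1) ∧ a χ = -1} +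
        (if δ = 1 then 1 else 0) = 2 ∧
      ∀ η ∈ Y, IsSquare (Cfsg.charDegree (η : G → ℂ) *
        ∏ᶠ χ ∈ {χ : Cfsg.IrrCharacter G | χ ∈ X ∧ (χ : G → ℂ) ≠ fun _ => 1},
          Cfsg.charDegree (χ : G → ℂ)) := by
  classical
  haveI : Finite (Cfsg.IrrCharacter G) := irr_finite
  have hpp : p.Prime := Fact.out
  obtain ⟨χ₁, hχ₁X, hχ₁⟩ := D.triv_mem
  obtain ⟨χ₂, χ₃, h21, h31, h23, hX⟩ := bl3_three X D.card_X χ₁ hχ₁X
  have hχ₂X : χ₂ ∈ X := by rw [hX]; simp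
  have hχ₃X : χ₃ ∈ X := by rw [hX]; simp
  have hχ₂ne : (χ₂ : G → ℂ) ≠ fun _ => 1 := fun h => h21 (Subtype.ext (h.trans hχ₁.symm))
  have hχ₃ne : (χ₃ : G → ℂ) ≠ fun _ => 1 := fun h => h31 (Subtype.ext (h.trans hχ₁.symm))
  -- `Y` is not empty
  obtain ⟨η₀, hη₀⟩ : Y.Nonempty := by
    have hc := D.card_Y
    rw [Nat.card_coe_set_eq] at hc
    apply Set.nonempty_of_ncard_ne_zero
    rw [hc]
    have : 1 ≤ (Nat.card P - 1) / 3 := by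
      rw [Nat.le_div_iff_mul_le (by norm_num)]
      omega
    omega
  have h1reg : ¬ p ∣ orderOf (1 : G) := by
    rw [orderOf_one]
    exact hpp.one_lt.ne' ∘ Nat.dvd_one.mp
  have hdegY : ∀ η ∈ Y, Cfsg.charDegree (η : G → ℂ) = Cfsg.charDegree (η₀ : G → ℂ) := by
    intro η hη
    unfold Cfsg.charDegree
    rw [D.reg_Y η hη η₀ hη₀ 1 h1reg]
  obtain ⟨hprod, hsq, hL1⟩ := bl3_fin_main p M hM P hab hCN hm2 hfrob D t ht htK χ₁ χ₂ χ₃ η₀ hχ₁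
    h21 h31 h23 hX hη₀
  have he4 : -δ = 1 ∨ -δ = -1 := by
    rcases D.delta with h | h
    · right; rw [h]
    · left; rw [h]; norm_num
  have hFpos : ∀ χ : Cfsg.IrrCharacter G, (0 : ℤ) < (Cfsg.charDegree (χ : G → ℂ) : ℤ) := by
    intro χ
    have h0 : Cfsg.charDegree (χ : G → ℂ) ≠ 0 := by
      intro h0
      have h1 := charDegree_cast_of_isCharacter (IsIrrCharacter.isCharacter χ.2)
      rw [h0] at h1
      apply IsIrrCharacter.apply_one_ne_zero χ.2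
      rw [← h1]
      simp
    exact_mod_cast Nat.pos_of_ne_zero h0
  have hcount := bl3_alg_count (a χ₂) (a χ₃) (-δ) _ _ _ (D.val_X χ₂ hχ₂X).1 (D.val_X χ₃ hχ₃X).1
    he4 (hFpos χ₂) (hFpos χ₃) (hFpos η₀) hL1 hprod
  -- membership in `X`
  have hmemX : ∀ χ : Cfsg.IrrCharacter G, χ ∈ X ↔ χ = χ₁ ∨ χ = χ₂ ∨ χ = χ₃ := by
    intro χ
    rw [hX]
    simp only [Set.mem_insert_iff, Set.mem_singleton_iff]
  constructor
  · rcases hcount with ⟨h2, h3, h4⟩ | ⟨h2, h3, h4⟩ | ⟨h2, h3, h4⟩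
    · -- `a χ₂ = -1`, `a χ₃ = -1`, `δ = -1`
      have hδ : ¬ δ = 1 := by omega
      rw [if_neg hδ, add_zero]
      rw [bl3_fin_card _ ({χ₂, χ₃} : Set (Cfsg.IrrCharacter G)), Set.ncard_pair h23]
      intro χ
      simp only [Set.mem_insert_iff, Set.mem_singleton_iff]
      constructor
      · rintro ⟨hχX, hχne, -⟩
        rcases (hmemX χ).mp hχX with rfl | rfl | rfl
        · exact absurd hχ₁ hχne
        · exact Or.inl rfl
        · exact Or.inr rfl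
      · rintro (rfl | rfl)
        · exact ⟨hχ₂X, hχ₂ne, h2⟩
        · exact ⟨hχ₃X, hχ₃ne, h3⟩
    · -- `a χ₂ = -1`, `a χ₃ = 1`, `δ = 1`
      have hδ : δ = 1 := by omega
      rw [if_pos hδ]
      rw [bl3_fin_card _ ({χ₂} : Set (Cfsg.IrrCharacter G)), Set.ncard_singleton]
      intro χ
      simp only [Set.mem_singleton_iff]
      constructor
      · rintro ⟨hχX, hχne, hχa⟩
        rcases (hmemX χ).mp hχX with rfl | rfl | rfl
        · exact absurd hχ₁ hχne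
        · rfl
        · rw [h3] at hχa
          omega
      · rintro rfl
        exact ⟨hχ₂X, hχ₂ne, h2⟩
    · -- `a χ₂ = 1`, `a χ₃ = -1`, `δ = 1`
      have hδ : δ = 1 := by omega
      rw [if_pos hδ]
      rw [bl3_fin_card _ ({χ₃} : Set (Cfsg.IrrCharacter G)), Set.ncard_singleton]
      intro χ
      simp only [Set.mem_singleton_iff]
      constructor
      · rintro ⟨hχX, hχne, hχa⟩
        rcases (hmemX χ).mp hχX with rfl | rfl | rfl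
        · exact absurd hχ₁ hχne
        · rw [h2] at hχa
          omega
        · rfl
      · rintro rfl
        exact ⟨hχ₃X, hχ₃ne, h3⟩
  · intro η hη
    have hset : {χ : Cfsg.IrrCharacter G | χ ∈ X ∧ (χ : G → ℂ) ≠ fun _ => 1} = {χ₂, χ₃} := by
      ext χ
      simp only [Set.mem_ofPred_eq, Set.mem_insert_iff, Set.mem_singleton_iff]
      constructor
      · rintro ⟨hχX, hχne⟩
        rcases (hmemX χ).mp hχX with rfl | rfl | rfl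
        · exact absurd hχ₁ hχne
        · exact Or.inl rfl
        · exact Or.inr rfl
      · rintro (rfl | rfl)
        · exact ⟨hχ₂X, hχ₂ne⟩
        · exact ⟨hχ₃X, hχ₃ne⟩
    rw [hset, finprod_mem_pair h23, hdegY η hη]
    rw [← Int.isSquare_natCast_iff]
    have hcast : ((Cfsg.charDegree (η₀ : G → ℂ) *
        (Cfsg.charDegree (χ₂ : G → ℂ) * Cfsg.charDegree (χ₃ : G → ℂ)) : ℕ) : ℤ) =
        (Cfsg.charDegree (χ₂ : G → ℂ) : ℤ) * (Cfsg.charDegree (χ₃ : G → ℂ) : ℤ) *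
          (Cfsg.charDegree (η₀ : G → ℂ) : ℤ) := by
      push_cast
      ring
    rw [hcast]
    exact hsq

end Cfsg.Agent.BL3
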